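import Cfsg.Agent.TIThree.Dihedral.Main
import Cfsg.Agent.TIThree.Basis

/-!
# Embedding a normalizer with dihedral automizer of order eight
-/

set_option autoImplicit false

namespace CfsgLib.TIThree

open Subgroup

universe u

namespace Dihedral

theorem d4_not_comm : ¬ ∀ x y : DihedralGroup 4, x * y = y * x := by decide +kernel

theorem d4_facts : ∀ x : DihedralGroup 4,
    x * DihedralGroup.r 2 = DihedralGroup.r 2 * x ∧
      (x * DihedralGroup.sr 0 * x⁻¹ = DihedralGroup.sr 0 ∨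
        x * DihedralGroup.sr 0 * x⁻¹ = DihedralGroup.sr 0 * DihedralGroup.r 2) := by decide +kernel

theorem d4_orders : (DihedralGroup.r 1 * DihedralGroup.r 1 : DihedralGroup 4) = DihedralGroup.r 2 ∧
    (DihedralGroup.r 2 : DihedralGroup 4) ≠ 1 ∧ (DihedralGroup.sr 0 : DihedralGroup 4) ≠ 1 ∧
    (DihedralGroup.sr 0 : DihedralGroup 4) * DihedralGroup.sr 0 = 1 ∧
    (DihedralGroup.r 2 : DihedralGroup 4) * DihedralGroup.r 2 = 1 ∧
    (DihedralGroup.sr 0 : DihedralGroup 4) ≠ DihedralGroup.r 2 := by decide +kernel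

theorem axis_fst_cases : ∀ u : Fin 3 × Fin 3, IsAxis u → u.2 = 0 → u = (1, 0) ∨ u = (2, 0) := by
  decide +kernel

variable {G : Type u} [Group G] [Finite G]

/-- A self-centralising Sylow subgroup of order nine with dihedral automizer: it is normal, or the
normalizer is a model normalizer and the group is an extension of degree two of a simple group of
order 360. -/
theorem normalizer_eq_top_or (P : Sylow 3 G) (hcard : Nat.card (P : Subgroup G) = 9)
    (hC : Subgroup.centralizer ((P : Subgroup G) : Set G) = (P : Subgroup G))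
    [hn : ((P : Subgroup G).subgroupOf (Subgroup.normalizer ((P : Subgroup G) : Set G))).Normal]
    (e : Subgroup.normalizer ((P : Subgroup G) : Set G) ⧸
        (P : Subgroup G).subgroupOf (Subgroup.normalizer ((P : Subgroup G) : Set G)) ≃* DihedralGroup 4)
    (hloc : ∀ t ∈ (P : Subgroup G), t ≠ 1 →
      Subgroup.centralizer ({t} : Set G) ≤ Subgroup.normalizer ((P : Subgroup G) : Set G)) :
    Subgroup.normalizer ((P : Subgroup G) : Set G) = ⊤ ∨
      ∃ S : Setting El G, ∃ M : Subgroup G, M.Normal ∧ Nat.card M = 360 ∧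
        IsSimpleGroup M ∧ M.index = 2 ∧ ∀ k : El, S.φ k ∈ M ↔ k ∈ El.cyc := by
  classical
  haveI : Fact (Nat.Prime 3) := ⟨Nat.prime_three⟩
  set N := Subgroup.normalizer ((P : Subgroup G) : Set G) with hN
  set Tn := (P : Subgroup G).subgroupOf N with hTn
  have hcomm : ∀ a ∈ (P : Subgroup G), ∀ b ∈ (P : Subgroup G), a * b = b * a := fun a ha b hb =>
    congrArg Subtype.val
      ((IsPGroup.commutative_of_card_eq_prime_sq (p := 3) (G := (P : Subgroup G))
        (by rw [hcard]; norm_num)) ⟨a, ha⟩ ⟨b, hb⟩)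
  have hconj : ∀ (m : N), ∀ t ∈ (P : Subgroup G), (m : G) * t * (m : G)⁻¹ ∈ (P : Subgroup G) :=
    fun m t ht => (Subgroup.mem_normalizer_iff.mp m.2 t).mp ht
  have hTtriv : ∀ m : N, m ∈ Tn → ∀ t ∈ (P : Subgroup G), (m : G) * t * (m : G)⁻¹ = t := by
    intro m hm t ht
    rw [hcomm _ (Subgroup.mem_subgroupOf.mp hm) t ht, mul_inv_cancel_right]
  have htrivT : ∀ m : N, (∀ t ∈ (P : Subgroup G), (m : G) * t * (m : G)⁻¹ = t) → m ∈ Tn := by
    intro m hm
    refine Subgroup.mem_subgroupOf.mpr (hC.le (Subgroup.mem_centralizer_iff.mpr fun t ht => ?_))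
    exact (mul_inv_eq_iff_eq_mul.mp (hm t ht)).symm
  have hsame : ∀ m m' : N, (m : N ⧸ Tn) = m' → ∀ t ∈ (P : Subgroup G),
      (m : G) * t * (m : G)⁻¹ = (m' : G) * t * (m' : G)⁻¹ := by
    intro m m' h t ht
    have := hTtriv _ (QuotientGroup.eq.mp h) t ht
    simp only [Subgroup.coe_mul, Subgroup.coe_inv] at this
    calc (m : G) * t * (m : G)⁻¹
        = (m : G) * ((m : G)⁻¹ * (m' : G) * t * ((m : G)⁻¹ * (m' : G))⁻¹) * (m : G)⁻¹ := by
          rw [this]
    _ = _ := by group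
  -- the exponent
  have hexp : ∀ t ∈ (P : Subgroup G), t ^ 3 = 1 := by
    intro t ht
    by_contra h
    have hd : orderOf t ∣ 3 ^ 2 := by
      rw [show (3 : ℕ) ^ 2 = Nat.card (P : Subgroup G) by rw [hcard]; norm_num]
      exact Subgroup.orderOf_dvd_natCard _ ht
    obtain ⟨i, hi2, hi⟩ := (Nat.dvd_prime_pow Nat.prime_three).mp hd
    have hi' : i = 2 := by
      by_contra hne
      refine h (orderOf_dvd_iff_pow_eq_one.mp ?_)
      rw [hi]
      rcases (show i = 0 ∨ i = 1 by omega) with rfl | rfl <;> norm_num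
    have hgen : ∀ s ∈ (P : Subgroup G), s ∈ Subgroup.zpowers t := by
      have hle : Subgroup.zpowers t ≤ (P : Subgroup G) := Subgroup.zpowers_le.mpr ht
      have := Subgroup.eq_of_le_of_card_ge hle (by rw [hcard, Nat.card_zpowers, hi, hi']; norm_num)
      exact fun s hs => by rw [this]; exact hs
    refine d4_not_comm fun x y => e.symm.injective ?_
    rw [map_mul, map_mul]
    obtain ⟨m, hm⟩ := QuotientGroup.mk_surjective (e.symm x)
    obtain ⟨n, hn'⟩ := QuotientGroup.mk_surjective (e.symm y)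
    rw [← hm, ← hn', ← QuotientGroup.mk_mul, ← QuotientGroup.mk_mul]
    refine QuotientGroup.eq.mpr (htrivT _ fun s hs => ?_)
    obtain ⟨i, hi⟩ := Subgroup.mem_zpowers_iff.mp (hgen _ (hconj m t ht))
    obtain ⟨j, hj⟩ := Subgroup.mem_zpowers_iff.mp (hgen _ (hconj n t ht))
    have key : (m : G) * ((n : G) * t * (n : G)⁻¹) * (m : G)⁻¹ =
        (n : G) * ((m : G) * t * (m : G)⁻¹) * (n : G)⁻¹ := by
      rw [← hj, ← hi, ← conj_zpow, ← conj_zpow, ← hi, ← hj, ← zpow_mul, ← zpow_mul, mul_comm]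
    obtain ⟨k, rfl⟩ := Subgroup.mem_zpowers_iff.mp (hgen s hs)
    rw [← conj_zpow]
    congr 1
    simp only [Subgroup.coe_mul, Subgroup.coe_inv]
    calc ((m : G) * (n : G))⁻¹ * ((n : G) * (m : G)) * t * (((m : G) * (n : G))⁻¹ * ((n : G) * (m : G)))⁻¹
        = ((m : G) * (n : G))⁻¹ * ((n : G) * ((m : G) * t * (m : G)⁻¹) * (n : G)⁻¹) *
            ((m : G) * (n : G)) := by group
    _ = ((m : G) * (n : G))⁻¹ * ((m : G) * ((n : G) * t * (n : G)⁻¹) * (m : G)⁻¹) *
          ((m : G) * (n : G)) := by rw [key]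
    _ = t := by group
  obtain ⟨zr, zne, sne, ss, zz, szne⟩ := d4_orders
  have hlift : ∀ x : DihedralGroup 4, ∃ m : N, e (m : N ⧸ Tn) = x := fun x => by
    obtain ⟨m, hm⟩ := QuotientGroup.mk_surjective (e.symm x)
    exact ⟨m, by rw [hm, MulEquiv.apply_symm_apply]⟩
  have hone : ∀ m : N, m ∈ Tn ↔ e (m : N ⧸ Tn) = 1 := fun m => by
    rw [MulEquiv.map_eq_one_iff, QuotientGroup.eq_one_iff]
  have hsame' : ∀ m m' : N, e (m : N ⧸ Tn) = e (m' : N ⧸ Tn) → ∀ t ∈ (P : Subgroup G),
      (m : G) * t * (m : G)⁻¹ = (m' : G) * t * (m' : G)⁻¹ := fun m m' h =>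
    hsame m m' (e.injective h)
  have hinv : ∀ m : N, e (m : N ⧸ Tn) * e (m : N ⧸ Tn) = 1 → ∀ t ∈ (P : Subgroup G),
      (m : G) * ((m : G) * t * (m : G)⁻¹) * (m : G)⁻¹ = t := by
    intro m hm t ht
    have := hTtriv (m * m) ((hone _).mpr (by rw [QuotientGroup.mk_mul, map_mul, hm])) t ht
    simpa [mul_assoc] using this
  obtain ⟨z, hz⟩ := hlift (DihedralGroup.r 2)
  obtain ⟨r, hr⟩ := hlift (DihedralGroup.r 1)
  obtain ⟨s, hs⟩ := hlift (DihedralGroup.sr 0)
  -- the centre inverts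
  have hzneg : ∀ t ∈ (P : Subgroup G), (z : G) * t * (z : G)⁻¹ = t⁻¹ := by
    by_contra hc
    push Not at hc
    have hzid : ∃ t ∈ (P : Subgroup G), (z : G) * t * (z : G)⁻¹ ≠ t := by
      by_contra hc'
      push Not at hc'
      exact zne (hz ▸ (hone z).mp (htrivT z hc'))
    obtain ⟨B, hza, hzb, hfix, hneg⟩ := exists_eigenbasis (P : Subgroup G) hcard hexp hcomm
      (hconj z) (hinv z (by rw [hz, zz])) hzid hc
    have hzr : ∀ t ∈ (P : Subgroup G), (z : G) * ((r : G) * t * (r : G)⁻¹) * (z : G)⁻¹ =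
        (r : G) * ((z : G) * t * (z : G)⁻¹) * (r : G)⁻¹ := fun t ht => by
      have := hsame' (z * r) (r * z) (by
        rw [QuotientGroup.mk_mul, QuotientGroup.mk_mul, map_mul, map_mul, hz, hr]
        exact ((d4_facts _).1).symm) t ht
      simpa [mul_assoc] using this
    have hrr : ∀ t ∈ (P : Subgroup G),
        (r : G) * ((r : G) * t * (r : G)⁻¹) * (r : G)⁻¹ = (z : G) * t * (z : G)⁻¹ := fun t ht => by
      have := hsame' (r * r) z (by rw [QuotientGroup.mk_mul, map_mul, hr, hz, zr]) t ht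
      simpa [mul_assoc] using this
    obtain ⟨v, hv1, hv2, hv3⟩ := hneg _ (hconj r _ B.hb)
      (fun e1 => B.hb1 (by rw [conj_eq_one_iff] at e1; rw [e1]; exact one_mem _))
      (by rw [hzr _ B.hb, hzb]; group)
    have hbb : (r : G) * ((r : G) * B.b * (r : G)⁻¹) * (r : G)⁻¹ = B.b := by
      have hv : v = (0, 1) ∨ v = (0, 2) := by
        rcases hv1 with rfl | rfl | rfl | rfl <;> simp at hv2 ⊢
      rcases hv with rfl | rfl
      · rw [B.pt_b] at hv3
        rw [hv3, hv3]
      · rw [B.pt_b'] at hv3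
        rw [hv3, ← conj_inv, hv3, inv_inv]
    rw [hrr _ B.hb, hzb] at hbb
    refine B.hb1 ?_
    have h2 : B.b * B.b = 1 := by
      calc B.b * B.b = B.b * B.b⁻¹ := by rw [hbb]
      _ = 1 := mul_inv_cancel _
    have := B.cube _ B.hb
    rw [pow_succ, pow_two, h2, one_mul] at this
    rw [this]
    exact one_mem _
  -- the reflection
  have hsid : ∃ t ∈ (P : Subgroup G), (s : G) * t * (s : G)⁻¹ ≠ t := by
    by_contra hc'
    push Not at hc'
    exact sne (hs ▸ (hone s).mp (htrivT s hc'))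
  have hsneg : ∃ t ∈ (P : Subgroup G), (s : G) * t * (s : G)⁻¹ ≠ t⁻¹ := by
    by_contra hc'
    push Not at hc'
    have hmem : z⁻¹ * s ∈ Tn := htrivT _ fun t ht => by
      simp only [Subgroup.coe_mul, Subgroup.coe_inv]
      calc (z : G)⁻¹ * (s : G) * t * ((z : G)⁻¹ * (s : G))⁻¹
          = (z : G)⁻¹ * ((s : G) * t * (s : G)⁻¹) * (z : G) := by group
      _ = (z : G)⁻¹ * ((z : G) * t * (z : G)⁻¹) * (z : G) := by rw [hc' t ht, hzneg t ht]
      _ = t := by group
    exact szne (by rw [← hs, ← hz, QuotientGroup.eq.mpr hmem])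
  obtain ⟨B, hsa, hsb, hfix, hneg⟩ := exists_eigenbasis (P : Subgroup G) hcard hexp hcomm
    (hconj s) (hinv s (by rw [hs, ss])) hsid hsneg
  have hsm : ∀ m : N, ∀ t ∈ (P : Subgroup G),
      ((s : G) * ((m : G) * t * (m : G)⁻¹) * (s : G)⁻¹ = (m : G) * ((s : G) * t * (s : G)⁻¹) * (m : G)⁻¹) ∨
      ((s : G) * ((m : G) * t * (m : G)⁻¹) * (s : G)⁻¹ = ((m : G) * ((s : G) * t * (s : G)⁻¹) * (m : G)⁻¹)⁻¹) := by
    intro m t ht
    rcases (d4_facts (e (m : N ⧸ Tn))).2 with h | h
    · left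
      have := hsame' (m * s) (s * m) (by
        rw [QuotientGroup.mk_mul, QuotientGroup.mk_mul, map_mul, map_mul, hs]
        exact mul_inv_eq_iff_eq_mul.mp h) t ht
      simpa [mul_assoc] using this.symm
    · right
      have := hsame' (m * s) (s * z * m) (by
        rw [QuotientGroup.mk_mul, QuotientGroup.mk_mul, QuotientGroup.mk_mul, map_mul, map_mul,
          map_mul, hs, hz]
        exact mul_inv_eq_iff_eq_mul.mp h) t ht
      simp only [Subgroup.coe_mul] at this
      rw [show (m : G) * ((s : G) * t * (s : G)⁻¹) * (m : G)⁻¹ =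
        (m : G) * (s : G) * t * ((m : G) * (s : G))⁻¹ by group, this,
        show (s : G) * (z : G) * (m : G) * t * ((s : G) * (z : G) * (m : G))⁻¹ =
          (s : G) * ((z : G) * ((m : G) * t * (m : G)⁻¹) * (z : G)⁻¹) * (s : G)⁻¹ by group,
        hzneg _ (hconj m t ht)]
      group
  have hmon : B.Monomial N := by
    intro m hm
    constructor
    · have hne : m * B.a * m⁻¹ ≠ 1 := fun e1 => B.ha1 (by rwa [conj_eq_one_iff] at e1)
      rcases hsm ⟨m, hm⟩ _ B.ha with h | h <;> rw [hsa] at h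
      · obtain ⟨u, h1, -, h3⟩ := hfix _ (hconj ⟨m, hm⟩ _ B.ha) hne h
        exact ⟨u, h1, h3⟩
      · obtain ⟨u, h1, -, h3⟩ := hneg _ (hconj ⟨m, hm⟩ _ B.ha) hne h
        exact ⟨u, h1, h3⟩
    · have hne : m * B.b * m⁻¹ ≠ 1 := fun e1 =>
        B.hb1 (by rw [conj_eq_one_iff] at e1; rw [e1]; exact one_mem _)
      rcases hsm ⟨m, hm⟩ _ B.hb with h | h <;> rw [hsb] at h
      · obtain ⟨u, h1, -, h3⟩ := hneg _ (hconj ⟨m, hm⟩ _ B.hb) hne (h.trans (by simp [mul_assoc]))
        exact ⟨u, h1, h3⟩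
      · obtain ⟨u, h1, -, h3⟩ := hfix _ (hconj ⟨m, hm⟩ _ B.hb) hne (h.trans (by simp [mul_assoc]))
        exact ⟨u, h1, h3⟩
  obtain ⟨f, hf, htr, -⟩ := exists_model (P : Subgroup G) B P.not_dvd_index hC hmon
  have hcardN : Nat.card N = 72 := by
    rw [← Tn.card_mul_index, Nat.card_congr (Subgroup.subgroupOfEquivOfLe
      (Subgroup.le_normalizer (H := (P : Subgroup G)))).toEquiv, hcard, Subgroup.index_eq_card,
      Nat.card_congr e.toEquiv, DihedralGroup.nat_card]
  have hbij : Function.Bijective f := (Nat.bijective_iff_injective_and_card _).mpr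
    ⟨hf, by rw [hcardN, Nat.card_eq_fintype_card, card_El]⟩
  obtain ⟨S0, hS0⟩ := exists_setting P B hloc f hf htr ⊤ (fun _ => trivial)
    (by rw [Subgroup.card_top, hcardN, Nat.card_eq_fintype_card, card_El])
  let u : El →* (⊤ : Subgroup El) := Subgroup.topEquiv.symm.toMonoidHom
  have hu : Function.Surjective u := Subgroup.topEquiv.symm.surjective
  let S : Setting El G :=
    { φ := S0.φ.comp u
      inj := S0.inj.comp Subgroup.topEquiv.symm.injective
      comm3 := fun x y hx hy => Subgroup.topEquiv.symm.injective (by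
        rw [map_mul, map_mul]
        exact S0.comm3 _ _ (by rw [← map_pow, hx, map_one]) (by rw [← map_pow, hy, map_one]))
      pow4 := fun x => by rw [← pow_mul]; exact El.pow_twelve x
      cent := fun x hx hx1 y hy => by
        obtain ⟨k, hk⟩ := S0.cent (u x) (by rw [← map_pow, hx, map_one])
          (fun e1 => hx1 (Subgroup.topEquiv.symm.injective (e1.trans (map_one _).symm))) y hy
        obtain ⟨k', rfl⟩ := hu k
        exact ⟨k', hk⟩
      norm := fun y hy => by
        obtain ⟨k, hk⟩ := S0.norm y fun x hx => by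
          obtain ⟨x', rfl⟩ := hu x
          rw [← map_pow] at hx
          obtain ⟨w, hw, e1⟩ := hy x' (Subgroup.topEquiv.symm.injective (hx.trans (map_one _).symm))
          exact ⟨u w, by rw [← map_pow, hw, map_one], e1⟩
        obtain ⟨k', rfl⟩ := hu k
        exact ⟨k', hk⟩
      sylow := fun Q hQ => by
        obtain ⟨y, hy⟩ := S0.sylow Q hQ
        refine ⟨y, fun a ha => ?_⟩
        obtain ⟨x, hx, e1⟩ := hy a ha
        obtain ⟨x', rfl⟩ := hu x
        rw [← map_pow] at hx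
        exact ⟨x', Subgroup.topEquiv.symm.injective (hx.trans (map_one _).symm), e1⟩ }
  rcases range_eq_top_or S with h | h
  · left
    refine eq_top_iff.mpr fun y _ => ?_
    obtain ⟨k, hk⟩ : y ∈ S.φ.range := by rw [h]; trivial
    rw [← hk]
    exact (hS0.le) ⟨u k, rfl⟩
  · exact Or.inr ⟨S, h⟩

end Dihedral

end CfsgLib.TIThree
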