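import Cfsg.Agent.TIThree.Columns

/-!
# The family of virtual characters for a dihedral automizer
-/

set_option autoImplicit false

namespace CfsgLib.TIThree

open Cfsg CfsgLib.Chars Rows Decomp

namespace Dihedral

/-- Fixed points on nine points. -/
def n9 (x : El) : ℤ := El.fixCount El.act x
/-- Fixed points on six points. -/
def n6 (x : El) : ℤ := El.fixCount El.act6 x
/-- Fixed points on four points. -/
def n4 (x : El) : ℤ := El.fixCount El.act4 x
/-- Fixed points through the swap. -/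
def nw (x : El) : ℤ := El.fixCount El.act2w x
/-- The sign of the swap. -/
def sw (x : El) : ℤ := nw x - 1
/-- The determinant of the diagonal part. -/
def sd (x : El) : ℤ := El.fixCount El.act2d x - 1

/-- First vector. -/
def vD1 (x : El) : ℤ := nw x + n4 x - n6 x
/-- Second vector. -/
def vE1 (x : El) : ℤ := 1 - sd x * sw x - (n9 x - n6 x + sw x) + sd x * (n6 x - nw x)
/-- Third vector. -/
def vD2 (x : El) : ℤ := sd x * nw x + (n4 x - nw x) - sd x * (n6 x - nw x)
/-- Fourth vector. -/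
def vE2 (x : El) : ℤ := sw x - sd x - sw x * (n9 x - n6 x + sw x) + sd x * (n6 x - nw x)

theorem act2w_one : ∀ v, El.act2w (1 : El) v = v := by decide +kernel
theorem act2d_one : ∀ v, El.act2d (1 : El) v = v := by decide +kernel
theorem act4_one : ∀ v, El.act4 (1 : El) v = v := by decide +kernel
theorem act6_one : ∀ v, El.act6 (1 : El) v = v := by decide +kernel
theorem act2w_mul : ∀ x y : El, ∀ v, El.act2w (x * y) v = El.act2w x (El.act2w y v) := by
  decide +kernel
theorem act2d_mul : ∀ x y : El, ∀ v, El.act2d (x * y) v = El.act2d x (El.act2d y v) := by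
  decide +kernel
theorem act4_mul : ∀ x y : El, ∀ v, El.act4 (x * y) v = El.act4 x (El.act4 y v) := by
  decide +kernel
theorem act6_mul : ∀ x y : El, ∀ v, El.act6 (x * y) v = El.act6 x (El.act6 y v) := by
  decide +kernel

theorem gen_n9 : IsIntGen El n9 := IsIntGen.fixCount El.act El.act_one El.act_mul
theorem gen_n6 : IsIntGen El n6 := IsIntGen.fixCount El.act6 act6_one act6_mul
theorem gen_n4 : IsIntGen El n4 := IsIntGen.fixCount El.act4 act4_one act4_mul
theorem gen_nw : IsIntGen El nw := IsIntGen.fixCount El.act2w act2w_one act2w_mul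
theorem gen_sw : IsIntGen El sw := gen_nw.sub IsIntGen.one
theorem gen_sd : IsIntGen El sd := (IsIntGen.fixCount El.act2d act2d_one act2d_mul).sub IsIntGen.one

theorem gen_vD1 : IsIntGen El vD1 := (gen_nw.add gen_n4).sub gen_n6
theorem gen_vE1 : IsIntGen El vE1 :=
  ((IsIntGen.one.sub (gen_sd.mul gen_sw)).sub ((gen_n9.sub gen_n6).add gen_sw)).add
    (gen_sd.mul (gen_n6.sub gen_nw))
theorem gen_vD2 : IsIntGen El vD2 :=
  ((gen_sd.mul gen_nw).add (gen_n4.sub gen_nw)).sub (gen_sd.mul (gen_n6.sub gen_nw))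
theorem gen_vE2 : IsIntGen El vE2 :=
  ((gen_sw.sub gen_sd).sub (gen_sw.mul ((gen_n9.sub gen_n6).add gen_sw))).add
    (gen_sd.mul (gen_n6.sub gen_nw))

/-- The vectors. -/
def vec : Fin 4 → El → ℤ := ![vD1, vE1, vD2, vE2]

theorem gen_vec : ∀ i, IsIntGen El (vec i) := by
  intro i
  fin_cases i
  exacts [gen_vD1, gen_vE1, gen_vD2, gen_vE2]

theorem vec_sing : ∀ i, ∀ k : El, k ^ 4 = 1 → vec i k = 0 := by decide +kernel

theorem vec_cls : ∀ i, ∀ k h : El, vec i (h * k * h⁻¹) = vec i k := by decide +kernel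

/-- The vectors as a list. -/
def vecs : List (El → ℤ) := [vec 0, vec 1, vec 2, vec 3]

theorem mem_vecs {v : El → ℤ} (h : v ∈ vecs) : ∃ i, v = vec i := by
  simp only [vecs, List.mem_cons, List.not_mem_nil, or_false] at h
  rcases h with rfl | rfl | rfl | rfl
  exacts [⟨0, rfl⟩, ⟨1, rfl⟩, ⟨2, rfl⟩, ⟨3, rfl⟩]

/-- Their invariants. -/
def specs : List Spec :=
  [⟨1, 4, []⟩, ⟨1, 4, [1]⟩, ⟨0, 4, [1, -2]⟩, ⟨0, 4, [1, 1, -2]⟩]

theorem check : famCheck [] vecs specs = true := by decide +kernel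

/-- The family. -/
def fam : Fam El where
  vs := vecs
  specs := specs
  gen := fun v hv => by
    obtain ⟨i, rfl⟩ := mem_vecs hv
    exact gen_vec i
  sing := fun v hv => by
    obtain ⟨i, rfl⟩ := mem_vecs hv
    exact vec_sing i
  cls := fun v hv => by
    obtain ⟨i, rfl⟩ := mem_vecs hv
    exact vec_cls i
  ok := check

/-- The state with nine constituents. -/
def bigState : List (List ℤ) :=
  [[1, 1, 0, 0], [0, 0, 1, -1], [0, 1, -1, 0], [1, 0, 0, 0], [0, 1, 0, 0], [1, 0, 1, 0],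
    [0, 1, -1, 1], [0, 0, 0, 1], [1, 0, 0, 1]]

theorem enum_eq : enum specs =
    [bigState,
      [[1, 1, 0, 0], [1, 0, 1, -1], [0, 1, -1, 0], [0, 1, 0, 0], [0, 0, 1, 0], [0, 1, -1, 1],
        [1, 0, 0, 1], [1, 0, 0, 1]],
      [[1, 1, 0, 0], [0, 1, 0, -1], [1, 0, 0, 0], [0, 0, 1, 0], [1, 0, 1, 0], [0, 1, -1, 1],
        [0, 1, -1, 1], [1, 0, 0, 1]],
      [[1, 1, 0, 0], [0, 0, 1, -1], [0, 0, 1, -1], [0, 1, -1, 0], [1, 0, 0, 0], [1, -1, 1, 0],
        [0, 0, 0, 1], [1, 1, 0, 1]],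
      [[1, 1, 0, 0], [0, 0, 1, -1], [1, 1, 0, 0], [1, -1, 1, 0], [0, 0, 1, 0], [0, 1, -1, 1],
        [0, 0, 0, 1], [1, 0, 0, 1]],
      [[1, 1, 0, 0], [0, 0, 1, -1], [0, 1, 0, 0], [1, -1, 1, 0], [1, 0, 1, 0], [1, 1, -1, 1],
        [0, 0, 0, 1], [0, 0, 0, 1]]] := by
  decide +kernel

/-- An axis element. -/
def ra : El := ⟨1, 0, false, false, false⟩

/-- A diagonal element. -/
def rd : El := ⟨1, 1, false, false, false⟩

/-- An element of order six squaring into the axes. -/
def za : El := ⟨0, 1, true, false, false⟩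

/-- An element of order six squaring into the diagonals. -/
def zd : El := ⟨0, 1, false, false, true⟩

theorem isVal_ra : IsValuation fam ra 1 [-1, 2, 3, 2] := ⟨rfl, one_ne_zero, by decide +kernel⟩
theorem isVal_rd : IsValuation fam rd 1 [2, -1, 0, -1] := ⟨rfl, one_ne_zero, by decide +kernel⟩
theorem isVal_za : IsValuation fam za 1 [1, 0, -1, 0] := ⟨rfl, one_ne_zero, by decide +kernel⟩
theorem isVal_zd : IsValuation fam zd 1 [0, 1, 0, -1] := ⟨rfl, one_ne_zero, by decide +kernel⟩

theorem count_aad : triCount ra ra rd = 648 := by decide +kernel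
theorem count_add : triCount ra rd rd = 648 := by decide +kernel

theorem ra_cube : ra ^ 3 = 1 := by decide +kernel
theorem rd_cube : rd ^ 3 = 1 := by decide +kernel
theorem ra_ne : ra ≠ 1 := by decide +kernel
theorem rd_ne : rd ≠ 1 := by decide +kernel

theorem not_conj_ad : ¬ IsConj ra rd := by
  intro h
  obtain ⟨c, hc⟩ := isConj_iff.mp h
  revert hc
  revert c
  decide +kernel

theorem not_conj_inv_ad : ¬ IsConj ra⁻¹ rd := by
  intro h
  obtain ⟨c, hc⟩ := isConj_iff.mp h
  revert hc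
  revert c
  decide +kernel

theorem card_cube : Nat.card {x : El // x ^ 3 = 1} = 9 := by
  rw [Nat.card_eq_fintype_card]
  decide +kernel

theorem card_El : Fintype.card El = 72 := by decide +kernel

theorem gen_trans : ∀ x : El, x ^ 3 = 1 → ∃ i j : Fin 3, x = ra ^ (i : ℕ) * rd ^ (j : ℕ) := by
  decide +kernel

theorem trans_class : ∀ k : El, k ^ 3 = 1 → k ≠ 1 →
    (∃ c, c * k * c⁻¹ = ra) ∨ ∃ c, c * k * c⁻¹ = rd := by decide +kernel

theorem four_four :
    ((Finset.univ.filter fun k : El => ∃ c, c * k * c⁻¹ = ra).card = 4) ∧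
      ((Finset.univ.filter fun k : El => ∃ c, c * k * c⁻¹ = rd).card = 4) := by decide +kernel

end Dihedral

end CfsgLib.TIThree
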