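import Mathlib

/-!
# The linear and bilinear forms on the values at involutions
-/

set_option autoImplicit false

namespace CfsgLib.TIThree.Dihedral

open Finset

/-- The signed degrees of the nine constituents. -/
noncomputable def deg9 (a b d : ℂ) : Fin 9 → ℂ :=
  ![1, d, -(1 + a - b), a, a, -(1 + a + d), -b, b, d]

/-- The values at the axes. -/
def row1 : Fin 9 → ℂ := ![1, 1, -1, -1, 2, 2, 1, 2, 1]
/-- The values at the diagonals. -/
def row2 : Fin 9 → ℂ := ![1, 1, -1, 2, -1, 2, -2, -1, 1]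
/-- The values at the first elements of order six. -/
def row3 : Fin 9 → ℂ := ![1, -1, 1, 1, 0, 0, 1, 0, 1]
/-- The values at the second elements of order six. -/
def row4 : Fin 9 → ℂ := ![1, 1, 1, 0, 1, 0, 0, -1, -1]

/-- The relations satisfied by values at regular elements. -/
def Rel (f : Fin 9 → ℂ) : Prop :=
  f 0 = 1 ∧ f 0 + f 3 + f 5 + f 8 = 0 ∧ f 0 + f 2 + f 4 + f 6 = 0 ∧
    f 1 - f 2 + f 5 - f 6 = 0 ∧ -f 1 + f 6 + f 7 + f 8 = 0

/-- The main parameter of a vector of values. -/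
def qq (f : Fin 9 → ℂ) : ℂ := -(f 6 + f 7)
/-- The first symmetrised parameter. -/
def sA (a : ℂ) (f : Fin 9 → ℂ) : ℂ := 2 * (f 4 - a) - qq f
/-- The second symmetrised parameter. -/
def sB (b : ℂ) (f : Fin 9 → ℂ) : ℂ := 2 * (f 7 - b) + qq f
/-- The difference parameter. -/
noncomputable def ll (a b : ℂ) (f : Fin 9 → ℂ) : ℂ := sA a f / a - sB b f / b
/-- The coefficient of the main parameter. -/
noncomputable def kk (a b d : ℂ) : ℂ := 1 / d - 1 / a - 1 / b

theorem eq_of_rel {f : Fin 9 → ℂ} (h : Rel f) :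
    f 0 = 1 ∧ f 2 = -1 - f 4 + f 7 + qq f ∧ f 3 = f 4 - qq f ∧ f 5 = -1 - f 4 - f 1 ∧
      f 6 = -qq f - f 7 ∧ f 8 = f 1 + qq f := by
  obtain ⟨h0, h1, h2, h3, h4⟩ := h
  refine ⟨h0, ?_, ?_, ?_, ?_, ?_⟩ <;> try simp only [qq]
  · linear_combination h2 - h0
  · linear_combination h1 - h2 - h3 - h4
  · linear_combination h2 + h3 - h0
  · ring
  · linear_combination h4

theorem sum_nine (w : Fin 9 → ℂ) :
    ∑ i, w i = w 0 + w 1 + w 2 + w 3 + w 4 + w 5 + w 6 + w 7 + w 8 := by
  simp only [Fin.sum_univ_castSucc, Fin.sum_univ_zero, zero_add]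
  rfl

variable {a b d : ℂ} (ha : a ≠ 0) (hb : b ≠ 0) (hd : d ≠ 0) (he : 1 + a - b ≠ 0)
  (h8 : 1 + a + d ≠ 0)

include ha hb hd he h8

theorem hexagon_one {f : Fin 9 → ℂ} (h : Rel f) :
    ∑ i, f i * row3 i * row2 i / deg9 a b d i =
      ll a b f + qq f * kk a b d - (sA a f - sB b f) / (2 * (1 + a - b)) := by
  obtain ⟨e0, e2, e3, e5, e6, e8⟩ := eq_of_rel h
  rw [sum_nine]
  simp only [row2, row3, deg9, Matrix.cons_val, e0, e2, e3, e5, e6, e8, ll, sA, sB, kk]
  field_simp
  ring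

theorem hexagon_two {f : Fin 9 → ℂ} (h : Rel f) :
    ∑ i, f i * row4 i * row1 i / deg9 a b d i =
      ll a b f - qq f * kk a b d - (sA a f - sB b f) / (2 * (1 + a - b)) := by
  obtain ⟨e0, e2, e3, e5, e6, e8⟩ := eq_of_rel h
  rw [sum_nine]
  simp only [row1, row4, deg9, Matrix.cons_val, e0, e2, e3, e5, e6, e8, ll, sA, sB, kk]
  field_simp
  ring

theorem bilinear_diff {f g : Fin 9 → ℂ} (hf : Rel f) (hg : Rel g) :
    ∑ i, f i * g i * row1 i / deg9 a b d i - ∑ i, f i * g i * row2 i / deg9 a b d i =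
      3 / 2 * (qq f * ll a b g + qq g * ll a b f) := by
  obtain ⟨e0, e2, e3, e5, e6, e8⟩ := eq_of_rel hf
  obtain ⟨g0, g2, g3, g5, g6, g8⟩ := eq_of_rel hg
  rw [sum_nine, sum_nine]
  simp only [row1, row2, deg9, Matrix.cons_val, e0, e2, e3, e5, e6, e8, g0, g2, g3, g5, g6, g8,
    ll, sA, sB]
  field_simp
  ring

theorem bilinear_sum {f g : Fin 9 → ℂ} (hf : Rel f) (hg : Rel g) :
    ∑ i, f i * g i * row3 i / deg9 a b d i + ∑ i, f i * g i * row4 i / deg9 a b d i =
      1 / 2 * (sA a f * sA a g / a - sB b f * sB b g / b + qq f * qq g * (1 / a - 1 / b) -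
        (sA a f - sB b f) * (sA a g - sB b g) / (1 + a - b)) := by
  obtain ⟨e0, e2, e3, e5, e6, e8⟩ := eq_of_rel hf
  obtain ⟨g0, g2, g3, g5, g6, g8⟩ := eq_of_rel hg
  rw [sum_nine, sum_nine]
  simp only [row3, row4, deg9, Matrix.cons_val, e0, e2, e3, e5, e6, e8, g0, g2, g3, g5, g6, g8,
    sA, sB]
  field_simp
  ring

omit hd h8

/-- The quadratic form. -/
noncomputable def hform (a b s t q : ℂ) : ℂ :=
  1 / 2 * (s * s / a - t * t / b + q * q * (1 / a - 1 / b) - (s - t) * (s - t) / (1 + a - b))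

theorem fused {s t q s' t' q' K : ℂ} (hab : a ≠ b) (hq : q ≠ 0)
    (h2 : s / a - t / b - q * K - (s - t) / (2 * (1 + a - b)) = 0)
    (h1 : s' / a - t' / b + q' * K - (s' - t') / (2 * (1 + a - b)) = 0)
    (hW : q * (s' / a - t' / b) + q' * (s / a - t / b) = 0) :
    hform a b s' t' q' = (q' / q) ^ 2 * hform a b s t q := by
  have e : q * (s' - t') + q' * (s - t) = 0 := by
    have h3 : (q * (s' - t') + q' * (s - t)) / (2 * (1 + a - b)) = 0 := by
      linear_combination hW - q * h1 - q' * h2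
    simpa [he] using h3
  have hX : q * s' + q' * s = 0 := by
    have h3 : (q * s' + q' * s) * (b - a) = 0 := by
      field_simp at hW
      linear_combination hW - a * e
    exact (mul_eq_zero.mp h3).resolve_right (sub_ne_zero.mpr (Ne.symm hab))
  have hs : s' = -(q' / q) * s := by field_simp; linear_combination hX
  have ht : t' = -(q' / q) * t := by field_simp; linear_combination hX - e
  rw [hs, ht, hform, hform]
  field_simp
  ring

theorem unfused {s t q s' t' q' K : ℂ} (hab : a ≠ b) (hq : q ≠ 0) (hK : K ≠ 0)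
    (h2 : s' / a - t' / b - q' * K - (s' - t') / (2 * (1 + a - b)) = 0)
    (h1 : s' / a - t' / b + q' * K - (s' - t') / (2 * (1 + a - b)) = 0)
    (hW : q * (s' / a - t' / b) + q' * (s / a - t / b) = 0) : q' = 0 ∧ s' = 0 := by
  have hq' : q' = 0 := by
    have : q' * K = 0 := by linear_combination (h1 - h2) / 2
    exact (mul_eq_zero.mp this).resolve_right hK
  subst hq'
  refine ⟨rfl, ?_⟩
  have hL : s' / a - t' / b = 0 := by
    have : q * (s' / a - t' / b) = 0 := by linear_combination hW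
    exact (mul_eq_zero.mp this).resolve_left hq
  have e : s' - t' = 0 := by
    have h3 : (s' - t') / (2 * (1 + a - b)) = 0 := by linear_combination hL - h1
    simpa [he] using h3
  have h3 : s' * (b - a) = 0 := by
    field_simp at hL
    linear_combination hL - a * e
  exact (mul_eq_zero.mp h3).resolve_right (sub_ne_zero.mpr (Ne.symm hab))

end CfsgLib.TIThree.Dihedral
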