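import Cfsg.Agent.TIThree.Dihedral.Family
import Mathlib.GroupTheory.Sylow

/-!
# The involution classes for a dihedral automizer
-/

set_option autoImplicit false

namespace CfsgLib.TIThree

open Subgroup

universe u

namespace Dihedral

/-- An involution centralising an axis. -/
def iS : El := ⟨0, 0, false, true, false⟩

/-- An involution centralising a diagonal. -/
def iT : El := ⟨0, 0, false, false, true⟩

/-- An involution inverting the translations. -/
def iU : El := ⟨0, 0, true, true, false⟩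

theorem iS_sq : iS ^ 2 = 1 := by decide +kernel
theorem iT_sq : iT ^ 2 = 1 := by decide +kernel
theorem iU_sq : iU ^ 2 = 1 := by decide +kernel

theorem iS_comm : iS * ra = ra * iS := by decide +kernel
theorem iT_comm : iT * rd = rd * iT := by decide +kernel

theorem cent_iT : ∀ k : El, k * iT = iT * k → k ^ 3 = 1 → k = 1 ∨ k = rd ∨ k = rd⁻¹ := by
  decide +kernel

theorem axis_not_conj : ∀ c : El, ∀ k, (k = 1 ∨ k = rd ∨ k = rd⁻¹) → c * ra * c⁻¹ ≠ k := by
  decide +kernel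

theorem inv_translation : ∀ k : El, k ^ 3 = 1 → k * iU * k⁻¹ * iU⁻¹ = k ^ 2 := by decide +kernel

variable {G : Type u} [Group G] [Finite G] (S : Setting El G)

theorem cube_of_pgroup {P : Subgroup G} (hP : IsPGroup 3 P) {k : El} (hk : S.φ k ∈ P) :
    k ^ 3 = 1 := by
  obtain ⟨n, hn⟩ := hP ⟨_, hk⟩
  have hkn : k ^ 3 ^ n = 1 := S.inj (by
    have := congrArg Subtype.val hn
    simpa using this)
  obtain ⟨i, -, hi⟩ := (Nat.dvd_prime_pow Nat.prime_three).mp (orderOf_dvd_of_pow_eq_one hkn)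
  have h12 : orderOf k ∣ 12 := orderOf_dvd_of_pow_eq_one (El.pow_twelve k)
  rw [hi] at h12
  refine orderOf_dvd_iff_pow_eq_one.mp ?_
  rw [hi]
  rcases i with _ | _ | i
  · norm_num
  · norm_num
  · exfalso
    have : 3 ^ 2 ∣ 12 := (pow_dvd_pow 3 (by omega : 2 ≤ i + 1 + 1)).trans h12
    norm_num at this

/-- The involutions centralising axes and diagonals are not conjugate. -/
theorem not_conj_ST : ¬ IsConj (S.φ iS) (S.φ iT) := by
  intro h
  haveI : Fact (Nat.Prime 3) := ⟨Nat.prime_three⟩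
  obtain ⟨g, hg⟩ := isConj_iff.mp h
  set H := Subgroup.centralizer ({S.φ iT} : Set G) with hH
  have hrd : S.φ rd ∈ H := Subgroup.mem_centralizer_singleton_iff.mpr (by
    rw [← map_mul, ← map_mul, iT_comm])
  have hra : g * S.φ ra * g⁻¹ ∈ H := Subgroup.mem_centralizer_singleton_iff.mpr (by
    rw [← hg]
    calc g * S.φ ra * g⁻¹ * (g * S.φ iS * g⁻¹) = g * (S.φ ra * S.φ iS) * g⁻¹ := by group
    _ = g * (S.φ iS * S.φ ra) * g⁻¹ := by rw [← map_mul, ← map_mul, iS_comm]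
    _ = _ := by group)
  have hgrp : ∀ x : H, (x : G) ^ 3 = 1 → IsPGroup 3 (Subgroup.zpowers x) := by
    intro x hx y
    obtain ⟨i, hi⟩ := Subgroup.mem_zpowers_iff.mp y.2
    refine ⟨1, Subtype.ext ?_⟩
    have hx3 : x ^ 3 = 1 := Subtype.ext (by simpa using hx)
    rw [SubmonoidClass.coe_pow, OneMemClass.coe_one, ← hi, pow_one, ← zpow_natCast, ← zpow_mul,
      mul_comm, zpow_mul, zpow_natCast, hx3, one_zpow]
  obtain ⟨Q, hQ⟩ := (hgrp ⟨_, hrd⟩ (by rw [← map_pow, rd_cube, map_one])).exists_le_sylow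
  obtain ⟨R, hR⟩ := (hgrp ⟨_, hra⟩
    (by rw [conj_pow, ← map_pow, ra_cube, map_one, mul_one, mul_inv_cancel])).exists_le_sylow
  obtain ⟨m, hm⟩ := MulAction.exists_smul_eq H R Q
  have hQ3 : IsPGroup 3 ((Q : Subgroup H).map H.subtype) := Q.isPGroup'.map _
  have hQmem : ∀ a ∈ (Q : Subgroup H).map H.subtype, ∃ k : El,
      (k = 1 ∨ k = rd ∨ k = rd⁻¹) ∧ S.φ k = a := by
    intro a ha
    obtain ⟨g', hg'⟩ := S.sylow _ hQ3
    obtain ⟨x, hx, ex⟩ := hg' a ha
    obtain ⟨y, hy, ey⟩ := hg' (S.φ rd) ⟨⟨_, hrd⟩, hQ (Subgroup.mem_zpowers _), rfl⟩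
    have hcomm : a * S.φ rd = S.φ rd * a := by
      refine mul_left_cancel (a := g') (mul_right_cancel (b := g'⁻¹) ?_)
      calc g' * (a * S.φ rd) * g'⁻¹ = g' * a * g'⁻¹ * (g' * S.φ rd * g'⁻¹) := by group
      _ = S.φ x * S.φ y := by rw [← ex, ← ey]
      _ = S.φ y * S.φ x := by rw [← map_mul, ← map_mul, S.comm3 x y hx hy]
      _ = g' * S.φ rd * g'⁻¹ * (g' * a * g'⁻¹) := by rw [← ex, ← ey]
      _ = g' * (S.φ rd * a) * g'⁻¹ := by group
    obtain ⟨k, hk⟩ := S.cent rd rd_cube rd_ne a hcomm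
    obtain ⟨b, hbQ, hb⟩ := ha
    have hbT := Subgroup.mem_centralizer_singleton_iff.mp (b.2 : (b : G) ∈ H)
    refine ⟨k, cent_iT k (S.inj ?_) (cube_of_pgroup S hQ3 (by rw [hk]; exact ⟨b, hbQ, hb⟩)), hk⟩
    rw [map_mul, map_mul, hk, ← hb]
    exact hbT
  have hconj : MulAut.conj m ⟨_, hra⟩ ∈ (Q : Subgroup H) := by
    rw [← hm]
    exact Subgroup.smul_mem_pointwise_smul _ (MulAut.conj m) _ (hR (Subgroup.mem_zpowers _))
  obtain ⟨k, hk, ek⟩ := hQmem _ ⟨_, hconj, rfl⟩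
  have hk' : IsConj (S.φ ra) (S.φ k) := isConj_iff.mpr ⟨(m : G) * g, by
    rw [ek]
    simp [mul_assoc]⟩
  obtain ⟨c, hc⟩ := isConj_iff.mp ((S.conj_iff (by decide +kernel)).mp hk')
  exact axis_not_conj c k hk hc

end Dihedral

end CfsgLib.TIThree
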