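import Cfsg.Agent.TIThree.Dihedral.States
import Cfsg.Agent.TIThree.Dihedral.Forms
import Cfsg.Agent.TIThree.Dihedral.Fusion
import Cfsg.Agent.Chars.Basic.Kernel

/-!
# The state with nine constituents is impossible without a linear constituent
-/

set_option autoImplicit false

namespace CfsgLib.TIThree

open scoped ComplexConjugate
open Cfsg CfsgLib.Chars Rows Decomp

universe u

namespace Dihedral

/-- Conjugacy inside the model, decidably. -/
def cj (a b : El) : Prop := ∃ c : El, c * a * c⁻¹ = b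

instance (a b : El) : Decidable (cj a b) :=
  inferInstanceAs (Decidable (∃ c : El, c * a * c⁻¹ = b))

theorem hexS : ∀ h : El, (rd * (h * za * h⁻¹)⁻¹) ^ 2 = 1 → cj iS (rd * (h * za * h⁻¹)⁻¹) := by
  decide +kernel

theorem hexT : ∀ h : El, (ra * (h * zd * h⁻¹)⁻¹) ^ 2 = 1 → cj iT (ra * (h * zd * h⁻¹)⁻¹) := by
  decide +kernel

theorem hexS_ne : ∃ h : El, cj iS (rd * (h * za * h⁻¹)⁻¹) := by decide +kernel

theorem hexT_ne : ∃ h : El, cj iT (ra * (h * zd * h⁻¹)⁻¹) := by decide +kernel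

theorem pairs_ra : ∀ x : El, x ^ 2 = 1 → (x⁻¹ * ra) ^ 2 = 1 →
    cj iS x ∧ cj iS (x⁻¹ * ra) ∨ cj iU x ∧ cj iU (x⁻¹ * ra) := by decide +kernel

theorem pairs_rd : ∀ x : El, x ^ 2 = 1 → (x⁻¹ * rd) ^ 2 = 1 →
    cj iT x ∧ cj iT (x⁻¹ * rd) ∨ cj iU x ∧ cj iU (x⁻¹ * rd) := by decide +kernel

theorem pairs_za : ∀ x : El, x ^ 2 = 1 → (x⁻¹ * za) ^ 2 = 1 →
    cj iS x ∧ cj iU (x⁻¹ * za) ∨ cj iU x ∧ cj iS (x⁻¹ * za) := by decide +kernel

theorem pairs_zd : ∀ x : El, x ^ 2 = 1 → (x⁻¹ * zd) ^ 2 = 1 →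
    cj iT x ∧ cj iU (x⁻¹ * zd) ∨ cj iU x ∧ cj iT (x⁻¹ * zd) := by decide +kernel

theorem pair_za_ne : ∃ x : El, cj iS x ∧ cj iU (x⁻¹ * za) := by decide +kernel

theorem pair_zd_ne : ∃ x : El, cj iT x ∧ cj iU (x⁻¹ * zd) := by decide +kernel

theorem za_facts : za ^ 6 = 1 ∧ za ^ 2 ≠ 1 ∧ za ^ 4 ≠ 1 := by decide +kernel

theorem zd_facts : zd ^ 6 = 1 ∧ zd ^ 2 ≠ 1 ∧ zd ^ 4 ≠ 1 := by decide +kernel

theorem ra_four : ra ^ 4 ≠ 1 ∧ rd ^ 4 ≠ 1 := by decide +kernel

theorem rd_not_za : ¬ cj rd⁻¹ (za ^ 2) := by decide +kernel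

theorem ra_not_zd : ¬ cj ra⁻¹ (zd ^ 2) := by decide +kernel

variable {G : Type u} [Group G] [Finite G] (S : Setting El G)

theorem conj_of_cj {a b : El} (h : cj a b) : IsConj (S.φ a) (S.φ b) :=
  MonoidHom.map_isConj S.φ (isConj_iff.mpr h)

omit [Finite G] in
theorem sq_of_conj {u : G} (hu : u ^ 2 = 1) {x : El} (h : IsConj u (S.φ x)) : x ^ 2 = 1 := by
  obtain ⟨c, hc⟩ := isConj_iff.mp h
  refine S.inj ?_
  rw [map_pow, ← hc, conj_pow, hu, mul_one, mul_inv_cancel, map_one]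

theorem natCard_cent_ne (u : G) : (Nat.card {g : G // g * u * g⁻¹ = u} : ℂ) ≠ 0 := by
  haveI : Nonempty {g : G // g * u * g⁻¹ = u} := ⟨⟨1, by simp⟩⟩
  exact Nat.cast_ne_zero.mpr Nat.card_pos.ne'

/-- The residual case of the arithmetic does not occur. -/
theorem not_residual [Fintype G] {st : List (List ℤ)} (D : Decomp S fam st) {a b d : ℤ}
    (hL : D.cols = residual a b d) (h5 : a % 9 = 5) (hab : a ≠ b) (he : 1 + a - b ≠ 0)
    (ha : a ≠ 0) (hb : b ≠ 0) (hd : d ≠ 0) (h8 : 1 + a + d ≠ 0) : False := by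
  classical
  simp only [Decomp.cols, residual, List.map_eq_cons_iff, List.map_eq_nil_iff] at hL
  obtain ⟨p0, l0, hall, e0, p1, l1, rfl, e1, p2, l2, rfl, e2, p3, l3, rfl, e3, p4, l4, rfl, e4,
    p5, l5, rfl, e5, p6, l6, rfl, e6, p7, l7, rfl, e7, p8, l8, rfl, e8, rfl⟩ := hL
  simp only [Col.mk.injEq] at e0 e1 e2 e3 e4 e5 e6 e7 e8
  set p : Fin 9 → IrrCharacter G × ℤ := ![p0, p1, p2, p3, p4, p5, p6, p7, p8] with hp
  have hsum : ∀ f : IrrCharacter G × ℤ → ℂ, (D.all.map f).sum = ∑ i, f (p i) := by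
    intro f
    rw [hall, sum_nine, hp]
    simp [add_assoc]
  have hdeg : ∀ i, (ydeg (p i) : ℂ) = deg9 (a : ℂ) b d i := by
    intro i
    fin_cases i <;> simp [hp, deg9, e0.2, e1.2, e2.2, e3.2, e4.2, e5.2, e6.2, e7.2, e8.2]
  have hrow : ∀ i, sc (S.φ ra) (p i) = row1 i ∧ sc (S.φ rd) (p i) = row2 i ∧
      sc (S.φ za) (p i) = row3 i ∧ sc (S.φ zd) (p i) = row4 i := by
    intro i
    have v1 := value (S := S) isVal_ra (p := p i)
    have v2 := value (S := S) isVal_rd (p := p i)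
    have v3 := value (S := S) isVal_za (p := p i)
    have v4 := value (S := S) isVal_zd (p := p i)
    rw [Int.cast_one, one_mul] at v1 v2 v3 v4
    rw [v1, v2, v3, v4]
    fin_cases i <;>
      simp [hp, row1, row2, row3, row4, dot, e0.1, e1.1, e2.1, e3.1, e4.1, e5.1, e6.1, e7.1, e8.1]
  let f : G → Fin 9 → ℂ := fun u i => sc u (p i)
  have hp0 : p 0 = (oneChar G, 1) := by
    rw [Decomp.all, List.cons.injEq] at hall
    simp [hp, hall.1]
  have hRel : ∀ u : G, u ^ 2 = 1 → Rel (f u) := by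
    intro u hu
    have h4 : u ^ 4 = 1 := by rw [show u ^ 4 = (u ^ 2) ^ 2 by rw [← pow_mul], hu, one_pow]
    have r : ∀ i, i < 4 → ∑ j, (((column (S := S) (F := fam) (p j)).getD i 0 : ℤ) : ℂ) * f u j = 0 :=
      fun i hi => (hsum (fun q => (((column (S := S) (F := fam) q).getD i 0 : ℤ) : ℂ) * sc u q)).symm.trans (D.relation h4 (by simpa [fam, vecs] using hi))
    have r0 := r 0 (by norm_num)
    have r1 := r 1 (by norm_num)
    have r2 := r 2 (by norm_num)
    have r3 := r 3 (by norm_num)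
    simp [sum_nine, hp, e0.1, e1.1, e2.1, e3.1, e4.1, e5.1, e6.1, e7.1, e8.1, f] at r0 r1 r2 r3
    refine ⟨?_, ?_, ?_, ?_, ?_⟩
    · show sc u (p 0) = 1
      rw [hp0, sc, oneChar_apply, Int.cast_one, one_mul]
    all_goals simp only [f, hp, Matrix.cons_val]
    · linear_combination r0
    · linear_combination r1
    · linear_combination r2
    · linear_combination r3
  have hn : (Nat.card G : ℂ) ≠ 0 := natCard_ne_zero
  -- the hexagon forms
  have hexform : ∀ {u : G} {z t : El} {A : List ℤ} (rz rt : Fin 9 → ℂ), u ^ 2 = 1 →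
      IsValuation fam t 1 A → (∀ i, sc (S.φ z) (p i) = rz i) → (∀ i, sc (S.φ t) (p i) = rt i) →
      t ^ 3 = 1 → t ≠ 1 → z ^ 6 = 1 → z ^ 2 ≠ 1 → ¬ cj t⁻¹ (z ^ 2) →
      ((∑ i, f u i * rz i * rt i / deg9 (a : ℂ) b d i = 0) ↔
        IsEmpty {h : El // IsConj u (S.φ (t * (h * z * h⁻¹)⁻¹))}) := by
    intro u z t A rz rt hu hA hz ht ht3 ht1 hz6 hz2 hne
    have h := S.hexagon_count hu ht3 ht1 hz6 hz2 (fun e => hne (isConj_iff.mp e))
    rw [D.triple_sum _ _ hA, hsum] at h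
    simp only [sc_one, hdeg, hz, ht] at h
    constructor
    · intro h0
      rw [show (∑ i, f u i * rz i * rt i / deg9 (a : ℂ) b d i) = _ from rfl] at h0
      rw [h0, mul_zero, eq_comm, mul_eq_zero, Nat.cast_eq_zero] at h
      have := h.resolve_left (fun e => natCard_cent_ne u (by rw [e, Nat.cast_zero]))
      rw [Nat.cast_eq_zero] at this
      exact (Nat.card_eq_zero.mp this).resolve_right (fun hi => hi.false)
    · intro h0
      rw [Nat.card_of_isEmpty (α := {h : El // IsConj u (S.φ (t * (h * z * h⁻¹)⁻¹))}),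
        Nat.cast_zero, mul_zero, mul_eq_zero] at h
      exact h.resolve_left hn
  -- the involution forms
  have invform : ∀ {u v : G} {z : El} {A : List ℤ} (rz : Fin 9 → ℂ), u ^ 2 = 1 → v ^ 2 = 1 →
      IsValuation fam z 1 A → (∀ i, sc (S.φ z) (p i) = rz i) → z ^ 4 ≠ 1 →
      ∃ N : ℕ, (Nat.card G : ℂ) * (∑ i, f u i * f v i * rz i / deg9 (a : ℂ) b d i) =
          (Nat.card {g : G // g * u * g⁻¹ = u} : ℂ) * (Nat.card {g : G // g * v * g⁻¹ = v} : ℂ) *
            (N : ℂ) ∧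
        (N = 0 ↔ ∀ x : El, IsConj u (S.φ x) → IsConj v (S.φ (x⁻¹ * z)) → False) := by
    intro u v z A rz hu hv hA hz hz4
    have h := S.involution_count hu hv hz4
    rw [D.triple_sum _ _ hA, hsum] at h
    simp only [sc_one, hdeg, hz] at h
    refine ⟨_, h, ?_⟩
    rw [Nat.card_eq_zero, or_iff_left (fun hi => hi.false)]
    exact ⟨fun he x h1 h2 => he.false ⟨x, h1, h2⟩, fun he => ⟨fun x => he x.1 x.2.1 x.2.2⟩⟩
  have hA0 : (a : ℂ) ≠ 0 := Int.cast_ne_zero.mpr ha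
  have hB0 : (b : ℂ) ≠ 0 := Int.cast_ne_zero.mpr hb
  have hD0 : (d : ℂ) ≠ 0 := Int.cast_ne_zero.mpr hd
  have hE0 : (1 + a - b : ℂ) ≠ 0 := by exact_mod_cast he
  have hF0 : (1 + a + d : ℂ) ≠ 0 := by exact_mod_cast h8
  have habC : (a : ℂ) ≠ (b : ℂ) := fun e => hab (by exact_mod_cast e)
  set uS := S.φ iS with huS
  set uT := S.φ iT with huT
  set uU := S.φ iU with huU
  have sqS : uS ^ 2 = 1 := by rw [huS, ← map_pow, iS_sq, map_one]
  have sqT : uT ^ 2 = 1 := by rw [huT, ← map_pow, iT_sq, map_one]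
  have sqU : uU ^ 2 = 1 := by rw [huU, ← map_pow, iU_sq, map_one]
  have hST : ¬ IsConj uS uT := not_conj_ST S
  have L1 : ∀ {u : G}, u ^ 2 = 1 →
      ((ll (a : ℂ) b (f u) + qq (f u) * kk (a : ℂ) b d -
        (sA a (f u) - sB b (f u)) / (2 * (1 + a - b)) = 0) ↔ ¬ IsConj u uS) := by
    intro u hu
    rw [← hexagon_one hA0 hB0 hD0 hE0 hF0 (hRel u hu), hexform row3 row2 hu isVal_rd
      (fun i => (hrow i).2.2.1) (fun i => (hrow i).2.1) rd_cube rd_ne za_facts.1 za_facts.2.1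
      rd_not_za]
    refine ⟨fun hem hc => ?_, fun hc => ⟨fun x => hc ?_⟩⟩
    · obtain ⟨h, hh⟩ := hexS_ne
      exact hem.false ⟨h, hc.trans (conj_of_cj S hh)⟩
    · exact x.2.trans (conj_of_cj S (hexS x.1 (sq_of_conj S hu x.2))).symm
  have L2 : ∀ {u : G}, u ^ 2 = 1 →
      ((ll (a : ℂ) b (f u) - qq (f u) * kk (a : ℂ) b d -
        (sA a (f u) - sB b (f u)) / (2 * (1 + a - b)) = 0) ↔ ¬ IsConj u uT) := by
    intro u hu
    rw [← hexagon_two hA0 hB0 hD0 hE0 hF0 (hRel u hu), hexform row4 row1 hu isVal_ra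
      (fun i => (hrow i).2.2.2) (fun i => (hrow i).1) ra_cube ra_ne zd_facts.1 zd_facts.2.1
      ra_not_zd]
    refine ⟨fun hem hc => ?_, fun hc => ⟨fun x => hc ?_⟩⟩
    · obtain ⟨h, hh⟩ := hexT_ne
      exact hem.false ⟨h, hc.trans (conj_of_cj S hh)⟩
    · exact x.2.trans (conj_of_cj S (hexT x.1 (sq_of_conj S hu x.2))).symm
  have S2 := (L2 sqS).mpr hST
  have hqS : qq (f uS) * kk (a : ℂ) b d ≠ 0 := fun e => by
    refine ((L1 sqS).mp ?_) (IsConj.refl _)
    linear_combination S2 + 2 * e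
  have T1 := (L1 sqT).mpr (fun h => hST h.symm)
  have hqT : qq (f uT) ≠ 0 := fun e => by
    refine ((L2 sqT).mp ?_) (IsConj.refl _)
    rw [e] at T1 ⊢
    linear_combination T1
  have hq0 : qq (f uS) ≠ 0 := fun e => hqS (by rw [e, zero_mul])
  have hK0 : kk (a : ℂ) b d ≠ 0 := fun e => hqS (by rw [e, mul_zero])
  -- the bilinear equation
  have hW : ∀ {v : G}, v ^ 2 = 1 → ¬ IsConj v uS →
      qq (f uS) * ll (a : ℂ) b (f v) + qq (f v) * ll (a : ℂ) b (f uS) = 0 := by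
    intro v hv hvS
    obtain ⟨N1, h1, z1⟩ := invform row1 sqS hv isVal_ra (fun i => (hrow i).1) ra_four.1
    obtain ⟨N2, h2, z2⟩ := invform row2 sqS hv isVal_rd (fun i => (hrow i).2.1) ra_four.2
    have hN1 : N1 = 0 := z1.mpr fun x hx hy => by
      rcases pairs_ra x (sq_of_conj S sqS hx) (sq_of_conj S hv hy) with ⟨-, c⟩ | ⟨c, c'⟩
      · exact hvS (hy.trans (conj_of_cj S c).symm)
      · exact hvS (hy.trans ((conj_of_cj S c').symm.trans ((conj_of_cj S c).trans hx.symm)))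
    have hN2 : N2 = 0 := z2.mpr fun x hx hy => by
      rcases pairs_rd x (sq_of_conj S sqS hx) (sq_of_conj S hv hy) with ⟨c, -⟩ | ⟨c, c'⟩
      · exact hST (hx.trans (conj_of_cj S c).symm)
      · exact hvS (hy.trans ((conj_of_cj S c').symm.trans ((conj_of_cj S c).trans hx.symm)))
    rw [hN1, Nat.cast_zero, mul_zero, mul_eq_zero] at h1
    rw [hN2, Nat.cast_zero, mul_zero, mul_eq_zero] at h2
    have := bilinear_diff hA0 hB0 hD0 hE0 hF0 (hRel uS sqS) (hRel v hv)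
    rw [h1.resolve_left hn, h2.resolve_left hn] at this
    linear_combination (-2 / 3 : ℂ) * this
  -- the quadratic form
  have hH : ∀ {u : G}, u ^ 2 = 1 →
      (hform (a : ℂ) b (sA a (f u)) (sB b (f u)) (qq (f u)) = 0 ↔
        ¬ (IsConj u uS ∧ IsConj u uU ∨ IsConj u uT ∧ IsConj u uU)) := by
    intro u hu
    obtain ⟨N3, h3, z3⟩ := invform row3 hu hu isVal_za (fun i => (hrow i).2.2.1) za_facts.2.2
    obtain ⟨N4, h4, z4⟩ := invform row4 hu hu isVal_zd (fun i => (hrow i).2.2.2) zd_facts.2.2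
    have hs := bilinear_sum hA0 hB0 hD0 hE0 hF0 (hRel u hu) (hRel u hu)
    have key : (Nat.card G : ℂ) * hform (a : ℂ) b (sA a (f u)) (sB b (f u)) (qq (f u)) =
        (Nat.card {g : G // g * u * g⁻¹ = u} : ℂ) * (Nat.card {g : G // g * u * g⁻¹ = u} : ℂ) *
          ((N3 + N4 : ℕ) : ℂ) := by
      rw [hform, ← hs, Nat.cast_add]
      linear_combination h3 + h4
    constructor
    · intro h0 hc
      rw [h0, mul_zero, eq_comm, mul_eq_zero, Nat.cast_eq_zero (n := N3 + N4)] at key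
      have h34 := key.resolve_left (mul_ne_zero (natCard_cent_ne u) (natCard_cent_ne u))
      rcases hc with ⟨c1, c2⟩ | ⟨c1, c2⟩
      · obtain ⟨x, hx, hy⟩ := pair_za_ne
        exact z3.mp (by omega) x (c1.trans (conj_of_cj S hx)) (c2.trans (conj_of_cj S hy))
      · obtain ⟨x, hx, hy⟩ := pair_zd_ne
        exact z4.mp (by omega) x (c1.trans (conj_of_cj S hx)) (c2.trans (conj_of_cj S hy))
    · intro hc
      have h3' : N3 = 0 := z3.mpr fun x hx hy => by
        rcases pairs_za x (sq_of_conj S hu hx) (sq_of_conj S hu hy) with ⟨c, c'⟩ | ⟨c, c'⟩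
        · exact hc (Or.inl ⟨hx.trans (conj_of_cj S c).symm, hy.trans (conj_of_cj S c').symm⟩)
        · exact hc (Or.inl ⟨hy.trans (conj_of_cj S c').symm, hx.trans (conj_of_cj S c).symm⟩)
      have h4' : N4 = 0 := z4.mpr fun x hx hy => by
        rcases pairs_zd x (sq_of_conj S hu hx) (sq_of_conj S hu hy) with ⟨c, c'⟩ | ⟨c, c'⟩
        · exact hc (Or.inr ⟨hx.trans (conj_of_cj S c).symm, hy.trans (conj_of_cj S c').symm⟩)
        · exact hc (Or.inr ⟨hy.trans (conj_of_cj S c').symm, hx.trans (conj_of_cj S c).symm⟩)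
      rw [h3', h4', Nat.add_zero, Nat.cast_zero, mul_zero, mul_eq_zero] at key
      exact key.resolve_left hn
  by_cases hfus : IsConj uU uS ∨ IsConj uU uT
  · have hfusedEq := fused hA0 hB0 hE0 habC hq0 S2 T1 (hW sqT (fun h => hST h.symm))
    rcases hfus with h | h
    · have hT0 := (hH sqT).mpr (by
        rintro (⟨c, -⟩ | ⟨-, c⟩)
        · exact hST c.symm
        · exact hST ((c.trans h).symm))
      rw [hT0, eq_comm, mul_eq_zero] at hfusedEq
      rcases hfusedEq with e | e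
      · exact hqT ((div_eq_zero_iff.mp (pow_eq_zero_iff (n := 2) (by norm_num) |>.mp e)).resolve_right hq0)
      · exact (hH sqS).mp e (Or.inl ⟨IsConj.refl _, h.symm⟩)
    · have hS0 := (hH sqS).mpr (by
        rintro (⟨-, c⟩ | ⟨c, -⟩)
        · exact hST (c.trans h)
        · exact hST c)
      rw [hS0, mul_zero] at hfusedEq
      exact (hH sqT).mp hfusedEq (Or.inr ⟨IsConj.refl _, h.symm⟩)
  push Not at hfus
  obtain ⟨hq, hs⟩ := unfused hA0 hB0 hE0 habC hq0 hK0 ((L2 sqU).mpr hfus.2) ((L1 sqU).mpr hfus.1)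
    (hW sqU hfus.1)
  rw [sA, hq, sub_zero] at hs
  have hf4 : sc uU p4 = (a : ℂ) := by
    have : f uU 4 = (a : ℂ) := by linear_combination hs / 2
    simpa [f, hp] using this
  have hsgn := sign_mul_sign (D.sign_sq (show p4 ∈ D.all by rw [hall]; simp))
  have hone : sc 1 p4 = (a : ℂ) := by rw [sc_one, e4.2]
  have hker : uU ∈ charKer (p4.1 : G → ℂ) := by
    rw [mem_charKer_iff (isCharacter_coe p4.1)]
    have := hf4.trans hone.symm
    rw [sc, sc] at this
    linear_combination (p4.2 : ℂ) * this + (((p4.1 : G → ℂ) 1) - (p4.1 : G → ℂ) uU) * hsgn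
  have hra : S.φ ra ∈ charKer (p4.1 : G → ℂ) := by
    have h2 : S.φ (ra ^ 2) ∈ charKer (p4.1 : G → ℂ) := by
      rw [← inv_translation ra ra_cube, map_mul, map_mul, map_mul, map_inv, map_inv]
      exact mul_mem ((charKer_normal (isClassFunction_coe p4.1)).conj_mem _ hker _) (inv_mem hker)
    have h4 := mul_mem h2 h2
    rw [← map_mul, show ra ^ 2 * ra ^ 2 = ra from by decide +kernel] at h4
    exact h4
  have h1 := map_eq_map_one_of_mem_charKer hra
  have hv : sc (S.φ ra) p4 = (2 : ℂ) := by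
    have := (hrow 4).1
    simpa [hp, row1] using this
  rw [sc, h1, ← sc, hone] at hv
  have : a = 2 := by exact_mod_cast hv
  omega

end Dihedral

end CfsgLib.TIThree
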