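import Cfsg.Agent.TIThree.Dihedral.Involutions
import Cfsg.Agent.TIThree.Klein
import Cfsg.Agent.TIThree.Cyclic

/-!
# A normalizer with dihedral automizer
-/

set_option autoImplicit false

namespace CfsgLib.TIThree

open scoped ComplexConjugate
open Cfsg CfsgLib.Chars Rows Decomp

universe u

namespace Dihedral

/-- The copy of the Klein model with the diagonals as axes. -/
def twist : El.klein →* El where
  toFun k := ⟨(k : El).a + (k : El).b, (k : El).a - (k : El).b, (k : El).p, (k : El).p,
    xor (k : El).p (k : El).q⟩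
  map_one' := rfl
  map_mul' := by decide +kernel

theorem twist_injective : Function.Injective twist := by
  intro x y
  revert x y
  decide +kernel

theorem mem_twist : ∀ k : El, (∃ x : El.klein, twist x = k) ↔ k.p = k.q := by decide +kernel

theorem cube_klein : ∀ k : El, k ^ 3 = 1 → k.w = false := by decide +kernel
theorem cube_cyc : ∀ k : El, k ^ 3 = 1 → xor k.p k.q = k.w := by decide +kernel
theorem cube_twist : ∀ k : El, k ^ 3 = 1 → k.p = k.q := by decide +kernel

theorem split : ∀ k : El, ∃ t : El, t ^ 3 = 1 ∧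
    k = t * (iT * iS * iT) ^ (cond k.p 1 0 : ℕ) * iS ^ (cond k.q 1 0 : ℕ) *
      iT ^ (cond k.w 1 0 : ℕ) := by
  decide +kernel

theorem classes : ∀ k : El, (k = 1 → ¬ cj ra k ∧ ¬ cj rd k) ∧ (cj ra k → ¬ cj rd k ∧ k ^ 3 = 1) ∧
    (cj rd k → k ^ 3 = 1) ∧ (k ^ 3 = 1 → k = 1 ∨ cj ra k ∨ cj rd k) := by decide +kernel

theorem four_a : (Finset.univ.filter fun k : El => cj ra k).card = 4 := by decide +kernel
theorem four_d : (Finset.univ.filter fun k : El => cj rd k).card = 4 := by decide +kernel

variable {G : Type u} [Group G] [Finite G] (S : Setting El G)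

theorem h9 : Nat.card S.sub3 = 9 := card_cube

theorem congr_nine [Fintype G] {st : List (List ℤ)} (D : Decomp S fam st) (p : Col)
    (hp : p ∈ D.cols) : (p.y + 4 * valu p.c + 4 * valv p.c) % 9 = 0 := by
  classical
  obtain ⟨q, -, hc, hy⟩ := D.mem_cols hp
  obtain ⟨m, hm⟩ := Decomp.nine_dvd (S := S) (h9 S) q
  have va : ∀ k, cj ra k → sc (S.φ k) q = (valu p.c : ℂ) := fun k h => by
    have h1 := eq_of_isConj (isClassFunction_coe q.1) (conj_of_cj S h)
    have h2 := value (S := S) isVal_ra (p := q)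
    rw [Int.cast_one, one_mul, hc, sc, h1] at h2
    exact h2
  have vd : ∀ k, cj rd k → sc (S.φ k) q = (valv p.c : ℂ) := fun k h => by
    have h1 := eq_of_isConj (isClassFunction_coe q.1) (conj_of_cj S h)
    have h2 := value (S := S) isVal_rd (p := q)
    rw [Int.cast_one, one_mul, hc, sc, h1] at h2
    exact h2
  have hterm : ∀ k : El, (if k ^ 3 = 1 then sc (S.φ k) q else 0) =
      (if k = 1 then (p.y : ℂ) else 0) + (if cj ra k then (valu p.c : ℂ) else 0) +
        (if cj rd k then (valv p.c : ℂ) else 0) := by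
    intro k
    obtain ⟨h1, h2, h3, h4⟩ := classes k
    by_cases hk : k ^ 3 = 1
    · rw [if_pos hk]
      rcases h4 hk with e | e | e
      · rw [if_pos e, if_neg (h1 e).1, if_neg (h1 e).2, e, map_one, sc_one, hy]
        simp
      · rw [if_neg (fun e' => (h1 e').1 e), if_pos e, if_neg (h2 e).1, va k e]
        simp
      · rw [if_neg (fun e' => (h1 e').2 e), if_neg (fun e' => (h2 e').1 e), if_pos e, vd k e]
        simp
    · rw [if_neg hk, if_neg (fun e => hk (by rw [e, one_pow])), if_neg (fun e => hk (h2 e).2),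
        if_neg (fun e => hk (h3 e))]
      simp
  rw [Finset.sum_congr rfl (fun k _ => hterm k), Finset.sum_add_distrib, Finset.sum_add_distrib,
    Finset.sum_ite_eq' Finset.univ (1 : El) (fun _ => (p.y : ℂ)), if_pos (Finset.mem_univ _),
    ← Finset.sum_filter, ← Finset.sum_filter, Finset.sum_const, Finset.sum_const, four_a, four_d,
    nsmul_eq_mul, nsmul_eq_mul] at hm
  have hm' : ((p.y + 4 * valu p.c + 4 * valv p.c : ℤ) : ℂ) = ((9 * m : ℤ) : ℂ) := by
    push_cast at hm ⊢
    exact hm
  have := Int.cast_injective hm'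
  omega

/-- There is a linear character other than the trivial one which is trivial on the translations. -/
theorem exists_linear_char : ∃ χ : IrrCharacter G, (χ : G → ℂ) 1 = 1 ∧ χ ≠ oneChar G ∧
    (χ : G → ℂ) (S.φ ra) = 1 ∧ (χ : G → ℂ) (S.φ rd) = 1 := by
  classical
  haveI := Fintype.ofFinite G
  obtain ⟨st, hst, ⟨D⟩⟩ := exists_decomp S fam
  have hidx := S.index_mod_nine (h9 S)
  have hcard : (Nat.card G : ℤ) = 72 * (S.φ.range.index : ℤ) := by
    rw [← S.φ.range.card_mul_index, ← Nat.card_congr (MonoidHom.ofInjective S.inj).toEquiv,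
      Nat.card_eq_fintype_card (α := El), card_El]
    push_cast
    ring
  have hcount : ∀ {a b c : El} {A B C : List ℤ}, IsValuation fam a 1 A →
      IsValuation fam b 1 B → IsValuation fam c 1 C → a ^ 3 = 1 → b ^ 3 = 1 → c ^ 3 = 1 →
      a ≠ 1 → b ≠ 1 → c ≠ 1 → ¬ (IsConj a b ∧ IsConj a⁻¹ c) → triCount a b c = 648 →
      ((S.φ.range.index : ℤ) : ℚ) *
        (D.cols.map fun p => ((dot A p.c * dot B p.c * dot C p.c : ℤ) : ℚ) / p.y).sum = 9 := by
    intro a b c A B C hA hB hC ha hb hc ha1 hb1 hc1 hne h0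
    have h := S.triangle_count ha hb hc ha1 hb1 hc1 hne
    rw [D.cols_triple hA hB hC, h0, show (Nat.card G : ℂ) = ((Nat.card G : ℤ) : ℂ) from
      (Int.cast_natCast _).symm, hcard] at h
    set s := (D.cols.map fun p => ((dot A p.c * dot B p.c * dot C p.c : ℤ) : ℚ) / p.y).sum
    have hq : ((72 * (S.φ.range.index : ℤ) : ℤ) : ℚ) * s = 648 := by
      apply Rat.cast_injective (α := ℂ)
      push_cast at h ⊢
      exact h
    push_cast at hq ⊢
    linarith
  have hEqs : Eqs D.cols (S.φ.range.index : ℤ) :=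
    ⟨D.cols_ne_zero, fun i hi => D.cols_relation (by simpa [fam, vecs] using hi),
      congr_nine S D,
      hcount isVal_ra isVal_ra isVal_rd ra_cube ra_cube rd_cube ra_ne ra_ne rd_ne
        (fun h => not_conj_inv_ad h.2) count_aad,
      hcount isVal_ra isVal_rd isVal_rd ra_cube rd_cube rd_cube ra_ne rd_ne rd_ne
        (fun h => not_conj_ad h.1) count_add⟩
  have hpos : (0 : ℤ) < (S.φ.range.index : ℤ) := by
    exact_mod_cast Nat.pos_of_ne_zero Subgroup.index_ne_zero_of_finite
  rcases cases_of_eqs st hst D.cols D.cols_map_c D.cols_head (S.φ.range.index : ℤ) (by omega) hpos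
      hEqs with hlin | ⟨a, b, d, hL, h5, hab, he, ha, hb, hd, h8⟩
  · obtain ⟨p, hp, hy, hu, hv⟩ := hlin
    rw [Decomp.cols, Decomp.all, List.map_cons, List.tail_cons] at hp
    obtain ⟨q, hq, rfl⟩ := List.mem_map.mp hp
    have hqall : q ∈ D.all := List.mem_cons_of_mem _ hq
    have hd := charDegree_pos q.1
    have hdeg : charDegree (q.1 : G → ℂ) = 1 ∧ ydeg q = q.2 := by
      rcases D.sign_sq hqall with e | e <;> simp only [ydeg, e] at hy ⊢ <;> omega
    have hone : (q.1 : G → ℂ) 1 = 1 := by rw [degree_int, hdeg.1]; simp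
    have hval : ∀ {k : El} {A : List ℤ}, IsValuation fam k 1 A →
        dot A (column (S := S) (F := fam) q) = ydeg q → (q.1 : G → ℂ) (S.φ k) = 1 := by
      intro k A hA h
      have := value (S := S) hA (p := q)
      rw [Int.cast_one, one_mul, sc, h, hdeg.2] at this
      rcases D.sign_sq hqall with e | e <;> rw [e] at this <;> push_cast at this
      · linear_combination this
      · linear_combination -this
    refine ⟨q.1, hone, ?_, hval isVal_ra hu, hval isVal_rd hv⟩
    intro e
    have hnd := D.real.2.1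
    rw [List.nodup_cons] at hnd
    exact hnd.1 (e ▸ List.mem_map_of_mem hq)
  · exact (not_residual S D hL h5 hab he ha hb hd h8).elim

/-- The normalizer is everything, or the group is an extension of degree two of a simple group
of order 360. -/
theorem range_eq_top_or : S.φ.range = ⊤ ∨ ∃ M : Subgroup G, M.Normal ∧ Nat.card M = 360 ∧
    IsSimpleGroup M ∧ M.index = 2 ∧ ∀ k : El, S.φ k ∈ M ↔ k ∈ El.cyc := by
  classical
  obtain ⟨χ, hdeg, hne, ha, hd⟩ := exists_linear_char S
  obtain ⟨l, hl⟩ := exists_linChar_eq χ hdeg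
  have hlin : ∀ x y : G, (χ : G → ℂ) (x * y) = (χ : G → ℂ) x * (χ : G → ℂ) y := fun x y => by
    rw [← hl]; simp
  obtain ⟨M, hMn, hMtop, hT, -, hmem⟩ := S.exists_kernel χ hdeg hne ra rd (fun x hx => by
    obtain ⟨i, j, rfl⟩ := gen_trans x hx
    exact mul_mem (pow_mem (Subgroup.subset_closure (by simp)) _)
      (pow_mem (Subgroup.subset_closure (by simp)) _)) ha hd
  haveI := hMn
  have hsq : ∀ {k : El}, k ^ 2 = 1 →
      (χ : G → ℂ) (S.φ k) = 1 ∨ (χ : G → ℂ) (S.φ k) = -1 := by
    intro k hk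
    refine mul_self_eq_one_iff.mp ?_
    rw [← hlin, ← map_mul, ← pow_two, hk, map_one, hdeg]
  have hk : ∀ k : El, (χ : G → ℂ) (S.φ k) =
      (cond k.p ((χ : G → ℂ) (S.φ iS)) 1) * (cond k.q ((χ : G → ℂ) (S.φ iS)) 1) *
        (cond k.w ((χ : G → ℂ) (S.φ iT)) 1) := by
    intro k
    obtain ⟨t, ht, e⟩ := split k
    have htt : (χ : G → ℂ) (S.φ iT) * (χ : G → ℂ) (S.φ iT) = 1 := by
      rw [← hlin, ← map_mul, ← pow_two, iT_sq, map_one, hdeg]
    conv_lhs => rw [e]
    rw [map_mul, map_mul, map_mul, hlin, hlin, hlin, (hmem _).mp (hT t ht), one_mul]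
    cases k.p <;> cases k.q <;> cases k.w <;>
      simp only [cond_true, cond_false, pow_zero, pow_one, map_one, map_mul, hlin, hdeg, one_mul,
        mul_one] <;>
      first
        | rfl
        | linear_combination ((χ : G → ℂ) (S.φ iS)) * htt
        | linear_combination ((χ : G → ℂ) (S.φ iS)) * ((χ : G → ℂ) (S.φ iS)) * htt
        | linear_combination ((χ : G → ℂ) (S.φ iS)) * ((χ : G → ℂ) (S.φ iT)) * htt
        | linear_combination ((χ : G → ℂ) (S.φ iS)) * ((χ : G → ℂ) (S.φ iS)) *
            ((χ : G → ℂ) (S.φ iT)) * htt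
  have hmix : ∀ {H : Type} [Group H] (ι : H →* El),
      Function.Injective ι → (∀ k : El, k ^ 3 = 1 → k ∈ ι.range) →
      (∀ k, S.φ k ∈ M ↔ k ∈ ι.range) → (∀ S' : Setting H M, S'.φ.range = ⊤) → S.φ.range = ⊤ :=
    fun ι hι h3 hM h => S.range_eq_top_of_normal M hT
      (S.restrict_range_le M _ ι hι h3 hM (h _))
  rcases hsq iS_sq with a1 | a1 <;> rcases hsq iT_sq with w1 | w1
  · refine absurd (S.eq_top_of_range_le M fun k => (hmem _).mpr ?_) hMtop
    rw [hk, a1, w1]
    simp
  · left
    have hM : ∀ k, S.φ k ∈ M ↔ k ∈ El.klein.subtype.range := fun k => by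
      rw [Subgroup.range_subtype, hmem, hk, a1, w1]
      show _ ↔ k.w = false
      cases k.p <;> cases k.q <;> cases k.w <;> norm_num
    exact hmix El.klein.subtype Subtype.val_injective
      (fun k h => by rw [Subgroup.range_subtype]; exact cube_klein k h) hM
      (fun S' => Klein.range_eq_top S')
  · left
    have hM : ∀ k, S.φ k ∈ M ↔ k ∈ twist.range := fun k => by
      rw [hmem, hk, a1, w1, MonoidHom.mem_range, mem_twist]
      cases k.p <;> cases k.q <;> cases k.w <;> norm_num
    exact hmix twist twist_injective (fun k h => (mem_twist k).mpr (cube_twist k h)) hM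
      (fun S' => Klein.range_eq_top S')
  · have hM' : ∀ k, S.φ k ∈ M ↔ k ∈ El.cyc := fun k => by
      rw [hmem, hk, a1, w1]
      show _ ↔ xor k.p k.q = k.w
      cases k.p <;> cases k.q <;> cases k.w <;> norm_num
    have hM : ∀ k, S.φ k ∈ M ↔ k ∈ El.cyc.subtype.range := fun k => by
      rw [Subgroup.range_subtype]; exact hM' k
    have h3 : ∀ k : El, k ^ 3 = 1 → k ∈ El.cyc.subtype.range := fun k h => by
      rw [Subgroup.range_subtype]; exact cube_cyc k h
    rcases Cyclic.range_eq_top_or (S.restrict M El.cyc El.cyc.subtype Subtype.val_injective h3 hM)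
      with htop | ⟨h360, hsimple⟩
    · exact Or.inl (S.range_eq_top_of_normal M hT
        (S.restrict_range_le M El.cyc El.cyc.subtype Subtype.val_injective h3 hM htop))
    refine Or.inr ⟨M, hMn, h360, hsimple, ?_, hM'⟩
    let L : Subgroup G := (S.φ.range.map l).comap l
    have hLn : L.Normal := (Subgroup.normal_of_comm _).comap l
    have hL : L = ⊤ := S.eq_top_of_range_le L fun k => ⟨S.φ k, ⟨k, rfl⟩, rfl⟩
    rw [Subgroup.index_eq_two_iff]
    refine ⟨S.φ iS, fun g => ?_⟩
    obtain ⟨y, ⟨k, rfl⟩, e⟩ : g ∈ L := by rw [hL]; trivial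
    have hg : (χ : G → ℂ) g = (χ : G → ℂ) (S.φ k) := by
      rw [← hl]; simp [e]
    have hpm : (χ : G → ℂ) g = 1 ∨ (χ : G → ℂ) g = -1 := by
      rw [hg, hk, a1, w1]
      cases k.p <;> cases k.q <;> cases k.w <;> norm_num
    rw [hmem, hmem, hlin, a1]
    rcases hpm with h | h <;> rw [h] <;> norm_num [Xor']

end Dihedral

end CfsgLib.TIThree
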