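import Cfsg.Agent.TIThree.Dihedral.Family

/-!
# The arithmetic of the six states for a dihedral automizer
-/

set_option autoImplicit false

namespace CfsgLib.TIThree

open Rows

namespace Dihedral

/-- The value at the axes. -/
def valu (c : List ℤ) : ℤ := dot [-1, 2, 3, 2] c
/-- The value at the diagonals. -/
def valv (c : List ℤ) : ℤ := dot [2, -1, 0, -1] c

/-- The conditions on the columns and signed degrees. -/
def Eqs (L : List Col) (M : ℤ) : Prop :=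
  (∀ p ∈ L, p.y ≠ 0) ∧
    (∀ i, i < 4 → (L.map fun p => p.c.getD i 0 * p.y).sum = 0) ∧
    (∀ p ∈ L, (p.y + 4 * valu p.c + 4 * valv p.c) % 9 = 0) ∧
    (M : ℚ) * (L.map fun p => ((valu p.c * valu p.c * valv p.c : ℤ) : ℚ) / p.y).sum = 9 ∧
    (M : ℚ) * (L.map fun p => ((valu p.c * valv p.c * valv p.c : ℤ) : ℚ) / p.y).sum = 9

/-- A constituent is linear and trivial on the translations. -/
def HasLinear (L : List Col) : Prop :=
  ∃ p ∈ L.tail, (p.y = 1 ∨ p.y = -1) ∧ valu p.c = p.y ∧ valv p.c = p.y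

/-- The list of columns left over by the arithmetic. -/
def residual (a b d : ℤ) : List Col :=
  [⟨[1, 1, 0, 0], 1⟩, ⟨[0, 0, 1, -1], d⟩, ⟨[0, 1, -1, 0], -(1 + a - b)⟩, ⟨[1, 0, 0, 0], a⟩,
    ⟨[0, 1, 0, 0], a⟩, ⟨[1, 0, 1, 0], -(1 + a + d)⟩, ⟨[0, 1, -1, 1], -b⟩, ⟨[0, 0, 0, 1], b⟩,
    ⟨[1, 0, 0, 1], d⟩]

theorem two_recip {a b : ℤ} (ha : a ≠ 0) (hb : b ≠ 0) (h : (1 : ℚ) / a + 1 / b = 0) : b = -a := by
  have ha' : (a : ℚ) ≠ 0 := Int.cast_ne_zero.mpr ha
  have hb' : (b : ℚ) ≠ 0 := Int.cast_ne_zero.mpr hb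
  field_simp at h
  have : (b : ℚ) = ((-a : ℤ) : ℚ) := by push_cast; linarith
  exact_mod_cast this

theorem not_square {z d k : ℤ} (hk : 0 ≤ k) (h1 : k * k < d) (h2 : d < (k + 1) * (k + 1)) :
    z * z ≠ d := by
  intro h
  rcases le_or_gt z.natAbs k.natAbs with hz | hz
  · have := Nat.mul_le_mul hz hz
    have e1 : ((z.natAbs * z.natAbs : ℕ) : ℤ) = z * z := by rw [Int.natAbs_mul_self]
    have e2 : ((k.natAbs * k.natAbs : ℕ) : ℤ) = k * k := by rw [Int.natAbs_mul_self]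
    omega
  · have hz' : k.natAbs + 1 ≤ z.natAbs := hz
    have := Nat.mul_le_mul hz' hz'
    have e1 : ((z.natAbs * z.natAbs : ℕ) : ℤ) = z * z := by rw [Int.natAbs_mul_self]
    have e2 : (((k.natAbs + 1) * (k.natAbs + 1) : ℕ) : ℤ) = (k + 1) * (k + 1) := by
      push_cast
      rw [abs_of_nonneg hk]
    omega

/-- Bounds for reciprocals in the congruence class one. -/
theorem one_bounds {x : ℤ} (h : x % 9 = 1) (h1 : x ≠ 1) :
    (x ≤ -8 ∨ 10 ≤ x) ∧ -(1 / 8 : ℚ) ≤ 1 / (x : ℚ) ∧ 1 / (x : ℚ) ≤ 1 / 10 := by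
  have hx : x ≤ -8 ∨ 10 ≤ x := by omega
  refine ⟨hx, ?_⟩
  rcases hx with h | h
  · have h' : (x : ℚ) ≤ -8 := by exact_mod_cast h
    refine ⟨?_, le_trans (div_nonpos_of_nonneg_of_nonpos zero_le_one (by linarith)) (by norm_num)⟩
    rw [le_div_iff_of_neg (by linarith)]
    linarith
  · have h' : (10 : ℚ) ≤ x := by exact_mod_cast h
    exact ⟨le_trans (by norm_num) (div_nonneg zero_le_one (by linarith : (0 : ℚ) ≤ x)),
      one_div_le_one_div_of_le (by norm_num) h'⟩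

theorem no_negative {z d : ℤ} (hd : d < 0) : z * z ≠ d := fun h => by
  nlinarith [mul_self_nonneg z]

theorem recip_lower {x : ℤ} {n : ℕ} (hn : 0 < n) (h : x ≤ -(n : ℤ) ∨ 0 < x) :
    -(1 / (n : ℚ)) ≤ 1 / (x : ℚ) ∧ (0 < x → 0 ≤ 1 / (x : ℚ)) := by
  have hn' : (0 : ℚ) < n := Nat.cast_pos.mpr hn
  have hp : 0 < x → 0 ≤ 1 / (x : ℚ) := fun hx =>
    div_nonneg zero_le_one (le_of_lt (by exact_mod_cast hx))
  refine ⟨?_, hp⟩
  rcases h with h | h
  · have h' : (x : ℚ) ≤ -(n : ℚ) := by exact_mod_cast h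
    rw [le_div_iff_of_neg (by linarith), neg_mul, one_div_mul_eq_div, ← neg_div, le_div_iff₀ hn']
    linarith
  · exact le_trans (by simpa using hn'.le) (hp h)

/-- The case of index ten. -/
theorem no_ten {a g h : ℤ} (ha : a % 9 = 1) (ha1 : a ≠ 1) (hg : g % 9 = 1) (hg1 : g ≠ 1)
    (hh : h % 9 = 4) (hsum : a + 2 * g + h = -2)
    (he : 2 / (a : ℚ) + 1 / (g : ℚ) + 2 / (h : ℚ) = -(1 / 10)) : False := by
  obtain ⟨ha', ha2, ha3⟩ := one_bounds ha ha1
  obtain ⟨hg', hg2, hg3⟩ := one_bounds hg hg1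
  have ea : 2 / (a : ℚ) = 2 * (1 / a) := by ring
  have eh : 2 / (h : ℚ) = 2 * (1 / h) := by ring
  rw [ea, eh] at he
  have eq0 : (20 * g * h + 10 * a * h + 20 * a * g : ℤ) = -(a * g * h) := by
    have na : (a : ℚ) ≠ 0 := Int.cast_ne_zero.mpr (by omega)
    have ng : (g : ℚ) ≠ 0 := Int.cast_ne_zero.mpr (by omega)
    have nh : (h : ℚ) ≠ 0 := Int.cast_ne_zero.mpr (by omega)
    field_simp at he
    exact_mod_cast (show ((20 * g * h + 10 * a * h + 20 * a * g : ℤ) : ℚ) =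
      ((-(a * g * h) : ℤ) : ℚ) by push_cast; linarith)
  rcases (show h = 4 ∨ h = -5 ∨ h = -14 ∨ h = -23 ∨ h = -32 ∨ (h ≤ -41 ∨ 0 < h) by omega) with
    rfl | rfl | rfl | rfl | rfl | hh'
  · push_cast at he
    linarith
  · push_cast at he
    rcases ha' with h1 | h1
    · have := (div_nonpos_of_nonneg_of_nonpos zero_le_one
        (by exact_mod_cast (show a ≤ (0 : ℤ) by omega)) : 1 / (a : ℚ) ≤ 0)
      linarith
    · have := (div_nonpos_of_nonneg_of_nonpos zero_le_one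
        (by exact_mod_cast (show g ≤ (0 : ℤ) by omega)) : 1 / (g : ℚ) ≤ 0)
      linarith
  · obtain rfl : a = 12 - 2 * g := by omega
    exact no_negative (z := -2 * g + 6) (d := -524) (by norm_num) (by linarith [eq0])
  · obtain rfl : a = 21 - 2 * g := by omega
    exact not_square (z := 4 * g - 21) (d := 13321) (k := 115) (by norm_num) (by norm_num)
      (by norm_num) (by linarith [eq0])
  · obtain rfl : a = 30 - 2 * g := by omega
    exact not_square (z := 2 * g - 15) (d := 1825) (k := 42) (by norm_num) (by norm_num)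
      (by norm_num) (by linarith [eq0])
  rcases (show a = -8 ∨ a = -17 ∨ a = -26 ∨ a = -35 ∨ (a ≤ -44 ∨ 0 < a) by omega) with
    rfl | rfl | rfl | rfl | ha''
  · obtain rfl : h = 6 - 2 * g := by omega
    exact no_negative (z := -2 * g + 3) (d := -71) (by norm_num) (by linarith [eq0])
  · obtain rfl : h = 15 - 2 * g := by omega
    exact no_negative (z := -4 * g + 15) (d := -6575) (by norm_num) (by linarith [eq0])
  · obtain rfl : h = 24 - 2 * g := by omega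
    exact not_square (z := 2 * g - 12) (d := 2224) (k := 47) (by norm_num) (by norm_num)
      (by norm_num) (by linarith [eq0])
  · obtain rfl : h = 33 - 2 * g := by omega
    exact not_square (z := 4 * g - 33) (d := 7249) (k := 85) (by norm_num) (by norm_num)
      (by norm_num) (by linarith [eq0])
  rcases (show g = -8 ∨ g = -17 ∨ (g ≤ -26 ∨ 0 < g) by omega) with rfl | rfl | hg''
  · obtain rfl : h = 14 - a := by omega
    exact no_negative (z := -2 * a + 14) (d := -4284) (by norm_num) (by linarith [eq0])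
  · obtain rfl : h = 32 - a := by omega
    exact not_square (z := 14 * a - 224) (d := 354816) (k := 595) (by norm_num) (by norm_num)
      (by norm_num) (by linarith [eq0])
  obtain ⟨a1, a2⟩ := recip_lower (n := 44) (by norm_num) ha''
  obtain ⟨g1, g2⟩ := recip_lower (n := 26) (by norm_num) hg''
  obtain ⟨h1, h2⟩ := recip_lower (n := 41) (by norm_num) hh'
  push_cast at a1 g1 h1
  rcases ha'' with x | x
  · rcases hg'' with y | y
    · rcases hh' with z | z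
      · omega
      · linarith [h2 z]
    · linarith [g2 y]
  · linarith [a2 x]

theorem no_four {a g h M : ℤ} (ha : a % 9 = 1) (ha1 : a ≠ 1) (hg : g % 9 = 1) (hg1 : g ≠ 1)
    (hh : h % 9 = 4) (hsum : a + 2 * g + h = -2) (hM : M % 9 = 1) (hM0 : 0 < M)
    (he : (M : ℚ) * (1 + 2 / (a : ℚ) + 1 / (g : ℚ) + 2 / (h : ℚ)) = 9) : False := by
  obtain ⟨ha', ha2, ha3⟩ := one_bounds ha ha1
  obtain ⟨hg', hg2, hg3⟩ := one_bounds hg hg1
  have ea : 2 / (a : ℚ) = 2 * (1 / a) := by ring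
  have eh : 2 / (h : ℚ) = 2 * (1 / h) := by ring
  obtain ⟨h5, h6, h7⟩ : -(1 / 5 : ℚ) ≤ 1 / (h : ℚ) ∧ 1 / (h : ℚ) ≤ 1 / 4 ∧
      (h ≠ -5 → -(1 / 14 : ℚ) ≤ 1 / (h : ℚ)) := by
    rcases (show h = -5 ∨ h ≤ -14 ∨ 4 ≤ h by omega) with rfl | hx | hx
    · exact ⟨by norm_num, by norm_num, fun h => absurd rfl h⟩
    · have hx' : (h : ℚ) ≤ -14 := by exact_mod_cast hx
      have : -(1 / 14 : ℚ) ≤ 1 / (h : ℚ) := by
        rw [le_div_iff_of_neg (by linarith)]; linarith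
      exact ⟨by linarith, le_trans (div_nonpos_of_nonneg_of_nonpos zero_le_one (by linarith))
        (by norm_num), fun _ => this⟩
    · have hx' : (4 : ℚ) ≤ h := by exact_mod_cast hx
      have : 0 ≤ 1 / (h : ℚ) := div_nonneg zero_le_one (by linarith)
      exact ⟨by linarith, one_div_le_one_div_of_le (by norm_num) hx', fun _ => by linarith⟩
  have hM' : (0 : ℚ) < M := by exact_mod_cast hM0
  have hS : (M : ℚ) ≤ 40 := by
    have : (9 / 40 : ℚ) ≤ 1 + 2 / (a : ℚ) + 1 / (g : ℚ) + 2 / (h : ℚ) := by linarith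
    nlinarith
  have hS' : M ≤ 40 := by exact_mod_cast hS
  rcases (show M = 1 ∨ M = 10 ∨ 19 ≤ M by omega) with rfl | rfl | hM19
  · push_cast at he; linarith
  · refine no_ten ha ha1 hg hg1 hh hsum ?_
    push_cast at he
    linarith
  · have h19 : (19 : ℚ) ≤ M := by exact_mod_cast hM19
    have hlow : 1 + 2 / (a : ℚ) + 1 / (g : ℚ) + 2 / (h : ℚ) ≤ 9 / 19 := by
      by_contra hc
      push Not at hc
      nlinarith
    by_cases hh5 : h = -5
    · subst hh5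
      push_cast at hlow eh
      rcases ha' with h1 | h1
      · have h1' : (a : ℚ) ≤ -17 := by exact_mod_cast (show a ≤ -17 by omega)
        have e1 : -(1 / 17 : ℚ) ≤ 1 / (a : ℚ) := by
          rw [le_div_iff_of_neg (by linarith)]; linarith
        have e2 : 0 ≤ 1 / (g : ℚ) :=
          div_nonneg zero_le_one (by exact_mod_cast (show (0 : ℤ) ≤ g by omega))
        linarith
      · have h1' : (0 : ℚ) ≤ a := by exact_mod_cast (le_trans (by norm_num) h1 : (0 : ℤ) ≤ a)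
        have e1 : 0 ≤ 1 / (a : ℚ) := div_nonneg zero_le_one h1'
        linarith
    · have := h7 hh5
      linarith

theorem mod_zero {a b c : ℤ} (ha : a ≠ 0) (hb : b ≠ 0) (hc : c ≠ 0)
    (h : (1 : ℚ) / a + 1 / b + 1 / c = 0) : (b * c + a * c + a * b) % 9 = 0 := by
  have ha' : (a : ℚ) ≠ 0 := Int.cast_ne_zero.mpr ha
  have hb' : (b : ℚ) ≠ 0 := Int.cast_ne_zero.mpr hb
  have hc' : (c : ℚ) ≠ 0 := Int.cast_ne_zero.mpr hc
  field_simp at h
  have : b * c + a * c + a * b = 0 := by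
    exact_mod_cast (show ((b * c + a * c + a * b : ℤ) : ℚ) = 0 by push_cast; linarith)
  rw [this]
  rfl

theorem sum_ne_zero {a b c r : ℤ} (ha : a % 9 = r % 9) (hb : b % 9 = r % 9) (hc : c % 9 = r % 9)
    (hr : (r * r + r * r + r * r) % 9 ≠ 0) : (b * c + a * c + a * b) % 9 ≠ 0 := by
  intro h
  refine hr ?_
  rw [← h]
  exact (((Int.ModEq.mul hb hc).add (Int.ModEq.mul ha hc)).add (Int.ModEq.mul ha hb)).symm

/-- The outcome of the arithmetic. -/
theorem cases_of_eqs (st : List (List ℤ)) (hst : st ∈ enum specs) (L : List Col)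
    (hc : L.map Col.c = st) (h1 : ∀ p, L.head? = some p → p.y = 1) (M : ℤ) (hM : M % 9 = 1)
    (hM0 : 0 < M) (hL : Eqs L M) :
    HasLinear L ∨ ∃ a b d : ℤ, L = residual a b d ∧ a % 9 = 5 ∧ a ≠ b ∧ 1 + a - b ≠ 0 ∧
      a ≠ 0 ∧ b ≠ 0 ∧ d ≠ 0 ∧ 1 + a + d ≠ 0 := by
  obtain ⟨hne, hrel, hmod, h2, h3⟩ := hL
  have hM' : (M : ℚ) ≠ 0 := Int.cast_ne_zero.mpr (by omega)
  have hd := mul_left_cancel₀ hM' (h2.trans h3.symm)
  have r0 := hrel 0 (by norm_num)
  have r1 := hrel 1 (by norm_num)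
  have r2 := hrel 2 (by norm_num)
  have r3 := hrel 3 (by norm_num)
  rw [enum_eq] at hst
  simp only [bigState, List.mem_cons, List.not_mem_nil, or_false] at hst
  rcases hst with rfl | rfl | rfl | rfl | rfl | rfl <;>
    simp only [List.map_eq_cons_iff, List.map_eq_nil_iff] at hc <;>
    obtain ⟨⟨c, y⟩, L, rfl, rfl, hc⟩ := hc <;>
    have hy : y = 1 := h1 _ rfl <;>
    subst hy
  · -- the state with nine constituents
    obtain ⟨⟨_, y1⟩, L, rfl, rfl, ⟨_, y2⟩, L, rfl, rfl, ⟨_, y3⟩, L, rfl, rfl, ⟨_, y4⟩, L, rfl, rfl,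
      ⟨_, y5⟩, L, rfl, rfl, ⟨_, y6⟩, L, rfl, rfl, ⟨_, y7⟩, L, rfl, rfl, ⟨_, y8⟩, L, rfl, rfl,
      rfl⟩ := hc
    simp only [List.forall_mem_cons] at hne hmod
    simp [valu, valv, dot] at hd hmod r0 r1 r2 r3
    obtain ⟨-, n1, n2, n3, n4, n5, n6, n7, n8, -⟩ := hne
    by_cases hlin : y2 = -1
    · exact Or.inl ⟨⟨[0, 1, -1, 0], y2⟩, by simp, Or.inr hlin, by simp [valu, dot, hlin],
        by simp [valv, dot, hlin]⟩
    right
    have q3 : (y3 : ℚ) ≠ 0 := Int.cast_ne_zero.mpr n3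
    have q4 : (y4 : ℚ) ≠ 0 := Int.cast_ne_zero.mpr n4
    have q6 : (y6 : ℚ) ≠ 0 := Int.cast_ne_zero.mpr n6
    have q7 : (y7 : ℚ) ≠ 0 := Int.cast_ne_zero.mpr n7
    have hp : (1 : ℚ) / y3 - 1 / y6 - 1 / y4 - 1 / y7 = 0 := by
      linear_combination (1 / 6 : ℚ) * hd
    have hs : y3 = y4 + y6 + y7 := by omega
    have hprod : (y4 + y7) * (y4 + y6) * (y6 + y7) = 0 := by
      have hs' : (y3 : ℚ) = y4 + y6 + y7 := by exact_mod_cast hs
      field_simp at hp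
      rw [hs'] at hp
      exact_mod_cast (show (((y4 + y7) * (y4 + y6) * (y6 + y7) : ℤ) : ℚ) = 0 by
        push_cast; linear_combination -hp)
    rcases mul_eq_zero.mp hprod with hprod | hb
    · rcases mul_eq_zero.mp hprod with hb | hb
      · omega
      · omega
    refine ⟨y4, y7, y1, ?_, by omega, ?_, by omega, n4, n7, n1, by omega⟩
    · simp only [residual, List.cons.injEq, Col.mk.injEq, true_and, and_true]
      omega
    · omega
  · -- second state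
    obtain ⟨⟨_, y1⟩, L, rfl, rfl, ⟨_, y2⟩, L, rfl, rfl, ⟨_, y3⟩, L, rfl, rfl, ⟨_, y4⟩, L, rfl, rfl,
      ⟨_, y5⟩, L, rfl, rfl, ⟨_, y6⟩, L, rfl, rfl, ⟨_, y7⟩, L, rfl, rfl, rfl⟩ := hc
    simp only [List.forall_mem_cons] at hne
    simp [valu, valv, dot] at hd r0 r1 r2 r3
    have e : y5 = -y3 := two_recip hne.2.2.2.1 hne.2.2.2.2.2.1 (by linear_combination (-1 / 6 : ℚ) * hd)
    have h : y2 = -1 := by omega
    exact Or.inl ⟨⟨[0, 1, -1, 0], y2⟩, by simp, Or.inr h, by simp [valu, dot, h], by simp [valv, dot, h]⟩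
  · -- third state
    obtain ⟨⟨_, y1⟩, L, rfl, rfl, ⟨_, y2⟩, L, rfl, rfl, ⟨_, y3⟩, L, rfl, rfl, ⟨_, y4⟩, L, rfl, rfl,
      ⟨_, y5⟩, L, rfl, rfl, ⟨_, y6⟩, L, rfl, rfl, ⟨_, y7⟩, L, rfl, rfl, rfl⟩ := hc
    simp only [List.forall_mem_cons] at hne hmod
    simp [valu, valv, dot] at hd hmod
    obtain ⟨-, n1, n2, n3, n4, n5, n6, -⟩ := hne
    have := mod_zero (a := -y2) (b := y5) (c := y6) (by simpa using n2) n5 n6
      (by push_cast; linear_combination (-1 / 6 : ℚ) * hd)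
    have e2 : y2 % 9 = 5 := by omega
    have e5 : y5 % 9 = 4 := by omega
    have e6 : y6 % 9 = 4 := by omega
    exact absurd this (sum_ne_zero (r := 4) (show (-y2) % 9 = 4 % 9 by omega) (show y5 % 9 = 4 % 9 by omega)
      (show y6 % 9 = 4 % 9 by omega) (by norm_num))
  · -- fourth state
    obtain ⟨⟨_, y1⟩, L, rfl, rfl, ⟨_, y2⟩, L, rfl, rfl, ⟨_, y3⟩, L, rfl, rfl, ⟨_, y4⟩, L, rfl, rfl,
      ⟨_, y5⟩, L, rfl, rfl, ⟨_, y6⟩, L, rfl, rfl, ⟨_, y7⟩, L, rfl, rfl, rfl⟩ := hc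
    simp only [List.forall_mem_cons] at hne
    simp [valu, valv, dot] at hd r0 r1 r2 r3
    have e : y6 = - -y4 := two_recip (a := -y4) (neg_ne_zero.mpr hne.2.2.2.2.1) hne.2.2.2.2.2.2.1
      (by push_cast; linear_combination (-1 / 6 : ℚ) * hd)
    have h : y3 = -1 := by omega
    exact Or.inl ⟨⟨[0, 1, -1, 0], y3⟩, by simp, Or.inr h, by simp [valu, dot, h], by simp [valv, dot, h]⟩
  · -- fifth state
    obtain ⟨⟨_, y1⟩, L, rfl, rfl, ⟨_, y2⟩, L, rfl, rfl, ⟨_, y3⟩, L, rfl, rfl, ⟨_, y4⟩, L, rfl, rfl,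
      ⟨_, y5⟩, L, rfl, rfl, ⟨_, y6⟩, L, rfl, rfl, ⟨_, y7⟩, L, rfl, rfl, rfl⟩ := hc
    simp only [List.forall_mem_cons] at hne hmod
    simp [valu, valv, dot] at hd h2 hmod r0 r1 r2 r3
    obtain ⟨-, n1, n2, n3, n4, n5, n6, -⟩ := hne
    have e6 : y6 = -y5 := two_recip n5 n6 (by linear_combination (-1 / 6 : ℚ) * hd)
    have e7 : y7 = y1 := by omega
    by_cases ha : y1 = 1
    · exact Or.inl ⟨⟨[0, 0, 1, -1], y1⟩, by simp, Or.inl ha, by simp [valu, dot, ha], by simp [valv, dot, ha]⟩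
    by_cases hg : y2 = 1
    · exact Or.inl ⟨⟨[1, 1, 0, 0], y2⟩, by simp, Or.inl hg, by simp [valu, dot, hg], by simp [valv, dot, hg]⟩
    exfalso
    rw [e6, e7] at h2
    refine no_four (a := y1) (g := y2) (h := y5) (M := M) (by omega) ha (by omega) hg (by omega)
      (by omega) hM hM0 ?_
    push_cast at h2
    linear_combination h2
  · -- sixth state
    obtain ⟨⟨_, y1⟩, L, rfl, rfl, ⟨_, y2⟩, L, rfl, rfl, ⟨_, y3⟩, L, rfl, rfl, ⟨_, y4⟩, L, rfl, rfl,
      ⟨_, y5⟩, L, rfl, rfl, ⟨_, y6⟩, L, rfl, rfl, ⟨_, y7⟩, L, rfl, rfl, rfl⟩ := hc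
    simp only [List.forall_mem_cons] at hne hmod
    simp [valu, valv, dot] at hd hmod
    obtain ⟨-, n1, n2, n3, n4, n5, n6, n7, -⟩ := hne
    have := mod_zero (a := y2) (b := y6) (c := y7) n2 n6 n7
      (by linear_combination (-1 / 6 : ℚ) * hd)
    exact absurd this (sum_ne_zero (r := 5) (show y2 % 9 = 5 % 9 by omega) (show y6 % 9 = 5 % 9 by omega)
      (show y7 % 9 = 5 % 9 by omega) (by norm_num))

end Dihedral

end CfsgLib.TIThree
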